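import Cfsg.Agent.MaxSub.Basic

/-!
The vectors all of whose transvections lie in a subgroup (helper32).
-/

set_option autoImplicit false

namespace Cfsg.Agent.SL3Geo32

open Matrix Cfsg.Agent.MaxSub

variable {ι : Type} [Fintype ι] [DecidableEq ι] {F : Type*} [Field F]

/-- The vectors which are centres of a full group of transvections inside `M`: a subspace. -/
def fullSpace (M : Subgroup (GL ι F)) : Submodule F (ι → F) where
  carrier := {x | ∀ φ : ι → F, φ ⬝ᵥ x = 0 → tv x φ ∈ M}
  zero_mem' := fun φ _ => by simp [one_mem]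
  add_mem' := by
    intro x y hx hy φ hφ
    by_cases hx0 : x = 0
    · subst hx0; rw [zero_add] at hφ ⊢; exact hy φ hφ
    by_cases hyx : y ∈ Submodule.span F {x}
    · obtain ⟨c, rfl⟩ := Submodule.mem_span_singleton.mp hyx
      by_cases hc : (1 + c : F) = 0
      · rw [show x + c • x = (1 + c) • x by module, hc, zero_smul, tv_zero_left]; exact one_mem _
      have h0 : φ ⬝ᵥ x = 0 := by
        rw [dotProduct_add, dotProduct_smul, smul_eq_mul] at hφ
        exact (mul_eq_zero.mp (show (1 + c) * (φ ⬝ᵥ x) = 0 by linear_combination hφ)).resolve_left hc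
      rw [show x + c • x = (1 + c) • x by module, tv_smul_comm _ h0]
      exact hx _ (by rw [smul_dotProduct, h0, smul_zero])
    have hxy : x ∉ Submodule.span F {y} := by
      intro h
      obtain ⟨c, hc⟩ := Submodule.mem_span_singleton.mp h
      have hc0 : c ≠ 0 := by rintro rfl; exact hx0 (by rw [← hc, zero_smul])
      exact hyx (Submodule.mem_span_singleton.mpr ⟨c⁻¹, by rw [← hc, inv_smul_smul₀ hc0]⟩)
    -- an element of the group of `y` carrying `x` to `x + y`
    obtain ⟨ψ, hψy, hψx⟩ := exists_annihilator hxy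
    have hψ : ψ ⬝ᵥ y = 0 := hψy y (Submodule.mem_span_singleton_self y)
    have hg := hy ψ hψ
    have hgx : (tv y ψ : Matrix ι ι F) *ᵥ x = x + y := by
      rw [tv_mulVec hψ, hψx, one_smul]
    have h0 : (φ ᵥ* (tv y ψ : Matrix ι ι F)) ⬝ᵥ x = 0 := by
      rw [← dotProduct_mulVec, hgx, hφ]
    have hc := tv_conj (tv y ψ) h0
    rw [hgx, vecMul_vecMul, Units.mul_inv, vecMul_one] at hc
    rw [← hc]
    exact mul_mem (mul_mem hg (hx _ h0)) (inv_mem hg)
  smul_mem' := by
    intro c x hx φ hφ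
    by_cases hc : c = 0
    · simp [hc, one_mem]
    have h0 : φ ⬝ᵥ x = 0 := by
      rw [dotProduct_smul, smul_eq_mul] at hφ
      exact (mul_eq_zero.mp hφ).resolve_left hc
    rw [tv_smul_comm _ h0]
    exact hx _ (by rw [smul_dotProduct, h0, smul_zero])

theorem mem_fullSpace {M : Subgroup (GL ι F)} {x : ι → F} :
    x ∈ fullSpace M ↔ ∀ φ : ι → F, φ ⬝ᵥ x = 0 → tv x φ ∈ M := Iff.rfl

/-- The space of full centres is invariant. -/
theorem mulVec_mem_fullSpace {M : Subgroup (GL ι F)} {g : GL ι F} (hg : g ∈ M) {x : ι → F}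
    (hx : x ∈ fullSpace M) : (g : Matrix ι ι F) *ᵥ x ∈ fullSpace M := by
  intro φ hφ
  have h0 : (φ ᵥ* (g : Matrix ι ι F)) ⬝ᵥ x = 0 := by rw [← dotProduct_mulVec, hφ]
  have hc := tv_conj g h0
  rw [vecMul_vecMul, Units.mul_inv, vecMul_one] at hc
  rw [← hc]
  exact mul_mem (mul_mem hg (hx _ h0)) (inv_mem hg)

/-- If the full centres are all vectors, the subgroup contains the special linear group. -/
theorem specialLinear_le_of_fullSpace {M : Subgroup (GL ι F)} (h : fullSpace M = ⊤) :
    Geo.specialLinear ι F ≤ M :=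
  specialLinear_le_of_tv_mem fun v φ hφ => (h.symm ▸ Submodule.mem_top : v ∈ fullSpace M) φ hφ

/-- One full centre in an irreducible subgroup suffices. -/
theorem specialLinear_le_of_full {M : Subgroup (GL ι F)}
    (hirr : ∀ W : Submodule F (ι → F), (∀ g ∈ M, ∀ x ∈ W, (g : Matrix ι ι F) *ᵥ x ∈ W) → W = ⊥ ∨ W = ⊤)
    {d : ι → F} (hd0 : d ≠ 0) (hd : ∀ φ : ι → F, φ ⬝ᵥ d = 0 → tv d φ ∈ M) :
    Geo.specialLinear ι F ≤ M := by
  refine specialLinear_le_of_fullSpace ((hirr _ fun g hg x hx => mulVec_mem_fullSpace hg hx).resolve_left ?_)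
  intro h
  have hm : d ∈ fullSpace M := hd
  rw [h, Submodule.mem_bot] at hm
  exact hd0 hm

end Cfsg.Agent.SL3Geo32
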