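import Cfsg.Agent.GeomMax32.Similitude
import Cfsg.Agent.SL3Geo32.Basic

/-!
The similitude group of a quadratic form in three variables is maximal in the special linear group,
odd characteristic (helper32).

If an element moves a singular vector `a` to a non-singular `d`, the conjugate of the root group of
`a` fixes `d`; its commutators with the isometry which is `1` on `d` and `-1` on the orthogonal of
`d` are transvections, and they fill the whole group of transvections with centre `d`.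
-/

set_option autoImplicit false
set_option linter.unusedSectionVars false

namespace Cfsg.Agent.SL3Geo32

open Matrix QuadraticMap Cfsg.Agent.MaxSub Cfsg.Agent.UnitaryOrthogonal Cfsg.Agent.OrthStab
open GeomMax32.Similitude (se se_mulVec se_similar bil)

variable {F : Type*} [Field F] [Finite F]

variable {Q : QuadraticForm F (Fin 3 → F)} (hQ : PolarND Q) (h2 : (2 : F) ≠ 0)

include hQ in
theorem nd : Geo.IsNondegenerateForm (polar (⇑Q)) := fun v hv => by
  obtain ⟨z, hz, -⟩ := exists_dual_vec (S := ⊥) hQ (e := v) (by simpa using hv)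
  exact ⟨⟨z, by rw [hz]; exact one_ne_zero⟩, z, by rw [polar_comm, hz]; exact one_ne_zero⟩

include hQ in
theorem exists_pair : ∃ u v : Fin 3 → F, Q u = 0 ∧ Q v = 0 ∧ polar (⇑Q) u v = 1 ∧ u ≠ 0 := by
  obtain ⟨u, -, hu0, hu⟩ := exists_singular_mem (Q := Q) ⊤ (by rw [finrank_top]; simp)
  obtain ⟨v, hv, huv, -⟩ := exists_partner (S := ⊥) hQ (by simpa using hu0) hu fun x hx => by
    rw [(Submodule.mem_bot F).mp hx, polar_zero_right]
  exact ⟨u, v, hu, hv, huv, hu0⟩

/-- A basis adapted to the form. -/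
structure Adapted (Q : QuadraticForm F (Fin 3 → F)) (u v w : Fin 3 → F) : Prop where
  hu : Q u = 0
  hv : Q v = 0
  huv : polar (⇑Q) u v = 1
  hwu : polar (⇑Q) w u = 0
  hwv : polar (⇑Q) w v = 0
  hw : Q w ≠ 0

theorem Adapted.hvu {u v w : Fin 3 → F} (h : Adapted Q u v w) : polar (⇑Q) v u = 1 := by
  rw [polar_comm]; exact h.huv

theorem Adapted.huw {u v w : Fin 3 → F} (h : Adapted Q u v w) : polar (⇑Q) u w = 0 := by
  rw [polar_comm]; exact h.hwu

theorem Adapted.hvw {u v w : Fin 3 → F} (h : Adapted Q u v w) : polar (⇑Q) v w = 0 := by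
  rw [polar_comm]; exact h.hwv

include hQ h2 in
/-- Coordinates in an adapted basis. -/
theorem Adapted.dec {u v w : Fin 3 → F} (h : Adapted Q u v w) (x : Fin 3 → F) :
    x = polar (⇑Q) x v • u + polar (⇑Q) x u • v + (polar (⇑Q) x w / (2 * Q w)) • w := by
  have h2w : 2 * Q w ≠ 0 := mul_ne_zero h2 h.hw
  have hli : LinearIndependent F ![u, v, w] := by
    rw [Fintype.linearIndependent_iff]
    intro c hc
    simp [Fin.sum_univ_three] at hc
    have E : ∀ y, polar (⇑Q) (c 0 • u + c 1 • v + c 2 • w) y = 0 := fun y => by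
      rw [hc, polar_zero_left]
    have eu := E u
    have ev := E v
    have ew := E w
    simp only [polar_add_left, polar_smul_left, smul_eq_mul, polar_self_eq, h.hu, h.hv, h.huv, h.hvu,
      h.hwu, h.hwv, h.huw, h.hvw, mul_zero, mul_one, add_zero, zero_add] at eu ev ew
    intro i
    fin_cases i
    · exact ev
    · exact eu
    · exact (mul_eq_zero.mp ew).resolve_right h2w
  set d := x - (polar (⇑Q) x v • u + polar (⇑Q) x u • v + (polar (⇑Q) x w / (2 * Q w)) • w) with hd
  have hd0 : d = 0 := by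
    refine hQ d fun y => ?_
    have hy : y ∈ Submodule.span F (Set.range ![u, v, w]) := by
      rw [hli.span_eq_top_of_card_eq_finrank (by simp)]; trivial
    have hle : Submodule.span F (Set.range ![u, v, w]) ≤ LinearMap.ker (lmap (bil Q) d) := by
      rw [Submodule.span_le]
      rintro _ ⟨i, rfl⟩
      show polar (⇑Q) _ d = 0
      rw [polar_comm, hd]
      fin_cases i <;>
        simp [polar_sub_left, polar_add_left, polar_smul_left, polar_self_eq, h.hu, h.hv, h.huv,
          h.hvu, h.hwu, h.hwv, h.huw, h.hvw, div_mul_cancel₀ _ h2w]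
    rw [polar_comm]
    exact hle hy
  exact sub_eq_zero.mp hd0

include hQ h2 in
/-- A singular vector extends to an adapted basis. -/
theorem exists_adapted {u : Fin 3 → F} (hu : Q u = 0) (hu0 : u ≠ 0) :
    ∃ v w, Adapted Q u v w := by
  obtain ⟨v, hv, huv, -⟩ := exists_partner (S := ⊥) hQ (by simpa using hu0) hu fun x hx => by
    rw [(Submodule.mem_bot F).mp hx, polar_zero_right]
  let Φ : (Fin 3 → F) →ₗ[F] (Fin 2 → F) := LinearMap.pi ![lmap (bil Q) u, lmap (bil Q) v]
  obtain ⟨w, hwk, hw0⟩ := Submodule.exists_mem_ne_zero_of_ne_bot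
    (LinearMap.ker_ne_bot_of_finrank_lt (f := Φ) (by simp))
  have hwu : polar (⇑Q) w u = 0 := congrFun hwk 0
  have hwv : polar (⇑Q) w v = 0 := congrFun hwk 1
  have hvu : polar (⇑Q) v u = 1 := by rw [polar_comm]; exact huv
  refine ⟨v, w, hu, hv, huv, hwu, hwv, fun hw => hw0 (hQ w fun x => ?_)⟩
  -- `u, v, w` span, so a singular `w` is in the radical
  have hli : LinearIndependent F ![u, v, w] := by
    rw [Fintype.linearIndependent_iff]
    intro c hc
    simp [Fin.sum_univ_three] at hc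
    have E : ∀ y, polar (⇑Q) (c 0 • u + c 1 • v + c 2 • w) y = 0 := fun y => by
      rw [hc, polar_zero_left]
    have eu := E u
    have ev := E v
    simp only [polar_add_left, polar_smul_left, smul_eq_mul, polar_self_eq, hu, hv, huv, hvu, hwu,
      hwv, mul_zero, mul_one, add_zero, zero_add] at eu ev
    rw [eu, ev] at hc
    intro i
    fin_cases i
    · exact ev
    · exact eu
    · simpa [hw0] using hc
  have hx : x ∈ Submodule.span F (Set.range ![u, v, w]) := by
    rw [hli.span_eq_top_of_card_eq_finrank (by simp)]; trivial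
  have hle : Submodule.span F (Set.range ![u, v, w]) ≤ LinearMap.ker (lmap (bil Q) w) := by
    rw [Submodule.span_le]
    rintro _ ⟨i, rfl⟩
    show polar (⇑Q) _ w = 0
    fin_cases i <;> simp [polar_comm (⇑Q) u w, polar_comm (⇑Q) v w, hwu, hwv, polar_self_eq, hw]
  rw [polar_comm]
  exact hle hx

include hQ h2 in
/-- A map preserving the singular vectors is a similitude. -/
theorem similar_of_singular {g : GL (Fin 3) F}
    (h : ∀ x, Q x = 0 → Q ((g : Matrix (Fin 3) (Fin 3) F) *ᵥ x) = 0) :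
    g ∈ Geo.quadSimilarityGroup (⇑Q) := by
  obtain ⟨u, v, hu, -, -, hu0⟩ := exists_pair hQ
  obtain ⟨v, w, B⟩ := exists_adapted hQ h2 hu hu0
  set G := (g : Matrix (Fin 3) (Fin 3) F) with hG
  set μ := polar (⇑Q) (G *ᵥ u) (G *ᵥ v) with hμ
  set α := polar (⇑Q) (G *ᵥ u) (G *ᵥ w) with hα
  set β := polar (⇑Q) (G *ᵥ v) (G *ᵥ w) with hβ
  have hgu : Q (G *ᵥ u) = 0 := h u B.hu
  have hgv : Q (G *ᵥ v) = 0 := h v B.hv
  -- the singular vectors `u - r² Q(w) v + r w`
  have hr : ∀ r : F, r * α + r * r * Q (G *ᵥ w) - r * r * Q w * μ - r * r * r * Q w * β = 0 := by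
    intro r
    have h0 : Q (u + (-(r * r * Q w)) • v + r • w) = 0 := by
      rw [form_add, form_add, form_smul, form_smul, B.hu, B.hv, polar_smul_right, B.huv,
        polar_smul_right, polar_add_left, polar_smul_left, B.huw, B.hvw]
      simp
    have h1 := h _ h0
    simp only [mulVec_add, mulVec_smul, form_add, form_smul, hgu, hgv, polar_smul_right,
      polar_add_left, polar_smul_left, smul_eq_mul, ← hμ, ← hα, ← hβ] at h1
    linear_combination h1
  have hQw : Q (G *ᵥ w) = μ * Q w := by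
    refine mul_left_cancel₀ h2 ?_
    linear_combination hr 1 + hr (-1)
  have hab : α = Q w * β := by
    refine mul_left_cancel₀ h2 ?_
    linear_combination hr 1 - hr (-1)
  have hinj : ∀ y, (∀ z, polar (⇑Q) (G *ᵥ y) (G *ᵥ z) = 0) → y = 0 := by
    intro y hy
    have h0 : G *ᵥ y = 0 := hQ _ fun z => by
      have := hy (((g⁻¹ : GL (Fin 3) F) : Matrix (Fin 3) (Fin 3) F) *ᵥ z)
      rwa [hG, mulVec_inv_mulVec] at this
    have := congrArg (((g⁻¹ : GL (Fin 3) F) : Matrix (Fin 3) (Fin 3) F) *ᵥ ·) h0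
    simpa [hG, inv_mulVec_mulVec] using this
  have hpol : ∀ y z, polar (⇑Q) (G *ᵥ y) (G *ᵥ z) =
      polar (⇑Q) z v * polar (⇑Q) (G *ᵥ y) (G *ᵥ u) + polar (⇑Q) z u * polar (⇑Q) (G *ᵥ y) (G *ᵥ v) +
        (polar (⇑Q) z w / (2 * Q w)) * polar (⇑Q) (G *ᵥ y) (G *ᵥ w) := by
    intro y z
    conv_lhs => rw [B.dec hQ h2 z]
    simp only [mulVec_add, mulVec_smul, polar_add_right, polar_smul_right, smul_eq_mul]
  have hvu : polar (⇑Q) (G *ᵥ v) (G *ᵥ u) = μ := by rw [polar_comm, hμ]
  have hwu : polar (⇑Q) (G *ᵥ w) (G *ᵥ u) = α := by rw [polar_comm, hα]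
  have hwv : polar (⇑Q) (G *ᵥ w) (G *ᵥ v) = β := by rw [polar_comm, hβ]
  have huu : polar (⇑Q) (G *ᵥ u) (G *ᵥ u) = 0 := by rw [polar_self_eq, hgu, mul_zero]
  have hvv : polar (⇑Q) (G *ᵥ v) (G *ᵥ v) = 0 := by rw [polar_self_eq, hgv, mul_zero]
  have hww : polar (⇑Q) (G *ᵥ w) (G *ᵥ w) = 2 * (μ * Q w) := by rw [polar_self_eq, hQw]
  have hμ0 : μ ≠ 0 := by
    intro e
    by_cases hb0 : β = 0
    · have := hinj w fun z => by
        rw [hpol, hwu, hwv, hww, e, hab, hb0]; ring
      exact B.hw (by rw [this, QuadraticMap.map_zero])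
    · have := hinj (Q w • v - u) fun z => by
        rw [hpol]
        simp only [mulVec_sub, mulVec_smul, polar_sub_left, polar_smul_left, smul_eq_mul, hvu, hvv,
          huu, ← hμ, ← hα, ← hβ, e, hab]
        ring
      have h3 := congrArg (fun y => polar (⇑Q) y v) this
      simp [polar_sub_left, polar_smul_left, polar_self_eq, B.hv, B.huv] at h3
  have hβ0 : β = 0 := by
    by_contra hb
    -- for more than three scalars the cubic coefficient vanishes
    by_cases hs : ∃ s : F, s ≠ 0 ∧ s * s ≠ 1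
    · obtain ⟨s, hs0, hs1⟩ := hs
      have h0 := hr s
      rw [hQw, hab] at h0
      have : s * Q w * β * (1 - s * s) = 0 := by linear_combination h0
      simp [hs0, B.hw, hb] at this
      exact hs1 (by linear_combination -this)
    · push Not at hs
      have h3 : β * β = μ * μ := by rw [hs β hb, hs μ hμ0]
      have := hinj ((-β) • u + (-(Q w * β)) • v + μ • w) fun z => by
        rw [hpol]
        simp only [mulVec_add, mulVec_smul, polar_add_left, polar_smul_left, smul_eq_mul, hvu, hvv,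
          huu, hwu, hwv, hww, ← hμ, ← hα, ← hβ, hab]
        linear_combination (-(2 * Q w) * (polar (⇑Q) z w / (2 * Q w))) * h3
      have h4 := congrArg (fun y => polar (⇑Q) y w) this
      simp [polar_add_left, polar_smul_left, polar_self_eq, B.huw, B.hvw, hμ0, h2, B.hw] at h4
  have hα0 : α = 0 := by rw [hab, hβ0, mul_zero]
  refine ⟨Units.mk0 μ hμ0, fun x => ?_⟩
  rw [Units.val_mk0, ← hG]
  conv_lhs => rw [B.dec hQ h2 x]
  conv_rhs => rw [B.dec hQ h2 x]
  simp only [mulVec_add, mulVec_smul, form_add, form_smul, hgu, hgv, hQw, B.hu, B.hv, B.huv, B.huw,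
    B.hvw, polar_smul_right, polar_add_left, polar_smul_left, smul_eq_mul, ← hμ, ← hα, ← hβ, hα0, hβ0]
  ring

/-- The rotation by a half turn about a non-singular vector. -/
theorem exists_halfTurn (h2 : (2 : F) ≠ 0) {d : Fin 3 → F} (hd : Q d ≠ 0) :
    ∃ J : GL (Fin 3) F, J ∈ Geo.quadSimilarityGroup (⇑Q) ⊓ Geo.specialLinear (Fin 3) F ∧
      ∀ x, (J : Matrix (Fin 3) (Fin 3) F) *ᵥ x = -x + (polar (⇑Q) x d / Q d) • d := by
  set κ : Fin 3 → F := (Q d)⁻¹ • rep (polar (⇑Q)) d with hκ
  have hκx : ∀ x, κ ⬝ᵥ x = polar (⇑Q) x d / Q d := fun x => by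
    rw [hκ, smul_dotProduct, rep_dot (bil Q), smul_eq_mul]; ring
  have hκd : κ ⬝ᵥ d = 2 := by rw [hκx, polar_self_eq, mul_div_assoc, div_self hd, mul_one]
  set A : Matrix (Fin 3) (Fin 3) F := -1 + vecMulVec d κ with hA
  have hAA : A * A = 1 := by
    rw [hA, add_mul, mul_add, mul_add, vecMulVec_mul_vecMulVec, hκd]
    ext i j
    simp [vecMulVec, Matrix.one_apply]
    ring
  let J : GL (Fin 3) F := ⟨A, A, hAA, hAA⟩
  have hJ : ∀ x, (J : Matrix (Fin 3) (Fin 3) F) *ᵥ x = -x + (polar (⇑Q) x d / Q d) • d := fun x => by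
    show A *ᵥ x = _
    rw [hA, add_mulVec, neg_mulVec, one_mulVec, vecMulVec_mulVec, op_smul_eq_smul, hκx]
  refine ⟨J, ⟨⟨1, fun x => ?_⟩, ?_⟩, hJ⟩
  · rw [hJ, form_add, QuadraticMap.map_neg, form_smul, polar_neg_left, polar_smul_right,
      Units.val_one, one_mul, smul_eq_mul]
    field_simp
    ring
  · show Matrix.GeneralLinearGroup.det J = 1
    refine Units.ext ?_
    rw [Matrix.GeneralLinearGroup.val_det_apply, Units.val_one]
    show A.det = 1
    have : A = -(1 + vecMulVec d (-κ)) := by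
      rw [hA]; ext i j; simp [vecMulVec]; ring
    rw [this, det_neg, Fintype.card_fin, vecMulVec_eq Unit,
      det_one_add_replicateCol_mul_replicateRow, neg_dotProduct, hκd]
    ring

variable {M : Subgroup (GL (Fin 3) F)}
  (hle : Geo.quadSimilarityGroup (⇑Q) ⊓ Geo.specialLinear (Fin 3) F ≤ M)

include hQ h2 hle

/-- A singular vector moved off the quadric gives a full centre. -/
theorem full_at_image {g : GL (Fin 3) F} (hg : g ∈ M) {a : Fin 3 → F} (ha : Q a = 0) (ha0 : a ≠ 0)
    (hd : Q ((g : Matrix (Fin 3) (Fin 3) F) *ᵥ a) ≠ 0) :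
    ∀ φ : Fin 3 → F, φ ⬝ᵥ ((g : Matrix (Fin 3) (Fin 3) F) *ᵥ a) = 0 →
      tv ((g : Matrix (Fin 3) (Fin 3) F) *ᵥ a) φ ∈ M := by
  obtain ⟨v, b, B⟩ := exists_adapted hQ h2 ha ha0
  set G := (g : Matrix (Fin 3) (Fin 3) F) with hG
  set G' := ((g⁻¹ : GL (Fin 3) F) : Matrix (Fin 3) (Fin 3) F) with hG'
  set d := G *ᵥ a with hdd
  have hgd : G' *ᵥ d = a := inv_mulVec_mulVec g a
  obtain ⟨J, hJH, hJ⟩ := exists_halfTurn (Q := Q) h2 hd
  set η : Fin 3 → F := rep (polar (⇑Q)) a ᵥ* G' with hη
  set ρ : Fin 3 → F := rep (polar (⇑Q)) b ᵥ* G' with hρ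
  have hηx : ∀ x, η ⬝ᵥ x = polar (⇑Q) (G' *ᵥ x) a := fun x => by
    rw [hη, ← dotProduct_mulVec, rep_dot (bil Q)]
  have hρx : ∀ x, ρ ⬝ᵥ x = polar (⇑Q) (G' *ᵥ x) b := fun x => by
    rw [hρ, ← dotProduct_mulVec, rep_dot (bil Q)]
  have hηd : η ⬝ᵥ d = 0 := by rw [hηx, hgd, polar_self_eq, ha, mul_zero]
  have hρd : ρ ⬝ᵥ d = 0 := by rw [hρx, hgd, B.huw]
  set k := polar (⇑Q) (G *ᵥ b) d / Q d with hk
  -- the transvections obtained from the half turn
  have key : ∀ t : F, t • ((2 : F) • ρ - k • η) + (t * t) • ((2 * Q b) • η) ∈ dualSet M d := by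
    intro t
    set φ := t • ((2 : F) • ρ - k • η) + (t * t) • ((2 * Q b) • η) with hφ
    have hφd : φ ⬝ᵥ d = 0 := by
      simp [hφ, add_dotProduct, sub_dotProduct, hηd, hρd]
    have hzu : polar (⇑Q) (t • b) a = 0 := by rw [polar_smul_left, B.hwu, smul_zero]
    set X := g * se Q a (t • b) * g⁻¹ with hX
    have hXM : X ∈ M := mul_mem (mul_mem hg (hle (se_similar ha hzu))) (inv_mem hg)
    have hXx : ∀ x, (X : Matrix (Fin 3) (Fin 3) F) *ᵥ x =
        x + (t * (η ⬝ᵥ x)) • (G *ᵥ b) + (-(t * (ρ ⬝ᵥ x)) - t * t * Q b * (η ⬝ᵥ x)) • d := by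
      intro x
      rw [hX, Units.val_mul, Units.val_mul, ← mulVec_mulVec, ← mulVec_mulVec, ← hG', ← hG,
        se_mulVec ha hzu, hηx, hρx, form_smul, polar_smul_right, mulVec_sub, mulVec_sub, mulVec_add,
        mulVec_smul, mulVec_smul, mulVec_smul, mulVec_smul, ← hdd, hG, hG', mulVec_inv_mulVec]
      simp only [smul_eq_mul]
      module
    have hkeyeq : X * tv d φ = J * X * J := by
      refine gl_ext fun x => ?_
      simp only [Units.val_mul, ← mulVec_mulVec, tv_mulVec hφd, hJ, hXx]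
      simp only [dotProduct_add, dotProduct_smul, dotProduct_neg, hηd, hρd, smul_eq_mul,
        polar_add_left, polar_smul_left, polar_neg_left, polar_self_eq, ← mul_div_assoc]
      simp only [hφ, add_dotProduct, sub_dotProduct, smul_dotProduct, smul_eq_mul, hk]
      match_scalars <;> field_simp <;> ring
    have h1 : X * tv d φ ∈ M := hkeyeq ▸ mul_mem (mul_mem (hle hJH) hXM) (hle hJH)
    exact ⟨hφd, by simpa using mul_mem (inv_mem hXM) h1⟩
  have hb2 : (2 * Q b : F) ≠ 0 := mul_ne_zero h2 B.hw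
  have hη' : ∀ c : F, c • η ∈ dualSet M d := by
    intro c
    set e := c / (2 * (2 * Q b)) with he
    set s := (e + 1) / 2 with hs
    set r := (e - 1) / 2 with hr
    have h := sub_mem (add_mem (key s) (key (-s))) (add_mem (key r) (key (-r)))
    convert h using 1
    have hc : c = 2 * (2 * Q b) * (s * s - r * r) := by
      have hsr : s * s - r * r = e := by rw [hs, hr]; field_simp; ring
      rw [hsr, he, mul_div_cancel₀ _ (mul_ne_zero h2 hb2)]
    rw [hc]
    match_scalars <;> ring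
  have hρ' : ∀ c : F, c • ρ ∈ dualSet M d := by
    intro c
    have h := add_mem (key (c / 2)) (hη' (c / 2 * k - c / 2 * (c / 2) * (2 * Q b)))
    convert h using 1
    match_scalars <;> field_simp <;> ring
  intro φ hφ
  suffices h : φ ∈ dualSet M d from h.2
  obtain ⟨z, hz⟩ := exists_rep (bil Q) (nd hQ) (φ ᵥ* G)
  have hza : polar (⇑Q) z a = 0 := by
    rw [polar_comm, ← rep_dot (bil Q), hz, ← dotProduct_mulVec, ← hdd, hφ]
  have hzd := B.dec hQ h2 z
  rw [hza, zero_smul, add_zero] at hzd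
  have h3 : φ = polar (⇑Q) z v • η + (polar (⇑Q) z b / (2 * Q b)) • ρ := by
    have h4 : φ = rep (polar (⇑Q)) z ᵥ* G' := by
      rw [hz, vecMul_vecMul, hG, hG', Units.mul_inv, vecMul_one]
    rw [h4]
    conv_lhs => rw [hzd]
    refine dotProduct_eq _ _ fun x => ?_
    rw [← dotProduct_mulVec, rep_dot (bil Q), add_dotProduct, smul_dotProduct, smul_dotProduct, hηx,
      hρx, polar_add_right, polar_smul_right, polar_smul_right]
  rw [h3]
  exact add_mem (hη' _) (hρ' _)

/-- Overgroups of the similitudes outside them contain the special linear group. -/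
theorem specialLinear_le {g : GL (Fin 3) F} (hg : g ∈ M) (hgs : g ∉ Geo.quadSimilarityGroup (⇑Q)) :
    Geo.specialLinear (Fin 3) F ≤ M := by
  obtain ⟨a, ha, hga⟩ : ∃ a, Q a = 0 ∧ Q ((g : Matrix (Fin 3) (Fin 3) F) *ᵥ a) ≠ 0 := by
    by_contra h
    push Not at h
    exact hgs (similar_of_singular hQ h2 h)
  have ha0 : a ≠ 0 := by rintro rfl; simp at hga
  set d := (g : Matrix (Fin 3) (Fin 3) F) *ᵥ a with hd
  have hdW : d ∈ fullSpace M := full_at_image hQ h2 hle hg ha ha0 hga
  -- a singular vector not orthogonal to `d`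
  obtain ⟨u, hu, hdu⟩ : ∃ u, Q u = 0 ∧ polar (⇑Q) d u ≠ 0 := by
    by_contra h
    push Not at h
    obtain ⟨u, -, hu, -, -, hu0⟩ := exists_pair hQ
    obtain ⟨v, w, B⟩ := exists_adapted hQ h2 hu hu0
    have h3 := h (u + (-Q w) • v + w) (by
      rw [form_add, form_add, form_smul, B.hu, B.hv, polar_smul_right, B.huv, polar_add_left,
        polar_smul_left, B.huw, B.hvw]
      simp)
    rw [polar_add_right, polar_add_right, polar_smul_right, h u B.hu, h v B.hv, smul_zero, add_zero,
      zero_add] at h3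
    have hdec := B.dec hQ h2 d
    rw [h v B.hv, h u B.hu, h3] at hdec
    simp at hdec
    exact hga (by rw [hdec]; simp)
  have hu0 : u ≠ 0 := by rintro rfl; simp at hdu
  obtain ⟨v, w, B⟩ := exists_adapted hQ h2 hu hu0
  have hp : ∀ t : F, d + polar (⇑Q) d u • (t • w) - polar (⇑Q) d (t • w) • u -
      (Q (t • w) * polar (⇑Q) d u) • u ∈ fullSpace M := by
    intro t
    have hzu : polar (⇑Q) (t • w) u = 0 := by rw [polar_smul_left, B.hwu, smul_zero]
    rw [← se_mulVec B.hu hzu d]
    exact mulVec_mem_fullSpace (hle (se_similar B.hu hzu)) hdW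
  have h1 := sub_mem (hp 1) hdW
  have h3 := sub_mem (hp (-1)) hdW
  simp only [one_smul, neg_smul, QuadraticMap.map_neg, polar_neg_right] at h1 h3
  have hWu : u ∈ fullSpace M := by
    have := Submodule.smul_mem (fullSpace M) (-(2 * (Q w * polar (⇑Q) d u))⁻¹) (add_mem h1 h3)
    have h0 : 2 * (Q w * polar (⇑Q) d u) ≠ 0 := mul_ne_zero h2 (mul_ne_zero B.hw hdu)
    convert this using 1
    have hQw := B.hw
    match_scalars <;> field_simp <;> ring
  have hWw : w ∈ fullSpace M := by
    have := Submodule.smul_mem (fullSpace M) (polar (⇑Q) d u)⁻¹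
      (add_mem h1 (Submodule.smul_mem _ (polar (⇑Q) d w + Q w * polar (⇑Q) d u) hWu))
    convert this using 1
    match_scalars <;> field_simp <;> ring
  have hWv : v ∈ fullSpace M := by
    have := Submodule.smul_mem (fullSpace M) (polar (⇑Q) d u)⁻¹
      (sub_mem (sub_mem hdW (Submodule.smul_mem _ (polar (⇑Q) d v) hWu))
        (Submodule.smul_mem _ (polar (⇑Q) d w / (2 * Q w)) hWw))
    have hdec := B.dec hQ h2 d
    convert this using 1
    rw [show d - polar (⇑Q) d v • u - (polar (⇑Q) d w / (2 * Q w)) • w = polar (⇑Q) d u • v by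
      conv_lhs => arg 1; arg 1; rw [hdec]
      abel, inv_smul_smul₀ hdu]
  refine specialLinear_le_of_fullSpace (eq_top_iff.mpr fun x _ => ?_)
  rw [B.dec hQ h2 x]
  exact add_mem (add_mem (Submodule.smul_mem _ _ hWu) (Submodule.smul_mem _ _ hWv))
    (Submodule.smul_mem _ _ hWw)

omit hQ h2 hle in
/-- The similitudes of a non-degenerate form in three variables are maximal, odd characteristic. -/
theorem quadric_maximal {F : Type*} [Field F] [Fintype F] (hodd : Odd (Fintype.card F))
    (Q : (Fin 3 → F) → F) (hQ : Cfsg.Geo.IsNondegenerateQuadraticForm Q) :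
    Cfsg.Geo.IsMaximalIn (Cfsg.Geo.specialLinear (Fin 3) F)
      (Cfsg.Geo.quadSimilarityGroup Q ⊓ Cfsg.Geo.specialLinear (Fin 3) F) := by
  obtain ⟨Qf, rfl, hnd⟩ := OrthStab.exists_form hQ
  have h2 : (2 : F) ≠ 0 := fun h => by
    have := CharP.ringChar_of_prime_eq_zero (R := F) Nat.prime_two (by exact_mod_cast h)
    have hev : Even (Fintype.card F) := by
      rw [Nat.even_iff]; exact FiniteField.even_card_iff_char_two.mp this
    exact Nat.not_odd_iff_even.mpr hev hodd
  refine isMaximalIn_of inf_le_right ?_ fun M hHM hMK g hg hgH =>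
    specialLinear_le hnd h2 hHM hg fun hs => hgH ⟨hs, hMK hg⟩
  -- a transvection that is not a similitude
  obtain ⟨a, b, ha, hb, hab, -⟩ := exists_pair hnd
  refine ⟨tv a (rep (polar (⇑Qf)) a), tv_mem_specialLinear _ _, fun hm => ?_⟩
  obtain ⟨c, hc⟩ := hm.1
  have h := hc b
  rw [tv_mulVec (by rw [rep_dot (bil Qf), polar_self_eq, ha, mul_zero]), rep_dot (bil Qf),
    polar_comm, hab, one_smul, form_add, hb, ha, polar_comm, hab, mul_zero, zero_add, zero_add] at h
  exact one_ne_zero h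

end Cfsg.Agent.SL3Geo32
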