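import Cfsg.Agent.SL4Geo66.Unitary
import Cfsg.Agent.SL3Geo32.Basic

/-!
The similitude group of a unitary form in three variables is maximal in the special linear group,
for every field (helper32).

An isotropic centre `v` with a foreign axis `w` gives, through the unipotent isometries fixing `v`
and one commutator with a centre `v'` with `f v' v = 1`, a centre with the full group of
transvections. A transvection with non-isotropic centre gives, through commutators, an isotropic
centre with a foreign axis.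
-/

set_option autoImplicit false
set_option linter.unusedSectionVars false
open Cfsg

namespace Cfsg.Agent.SL3Geo32.Unitary

open Matrix Cfsg.Agent.MaxSub Cfsg.Agent.GeomMax32.Unitary

variable {F : Type*} [Field F] [Finite F]
variable {σ : F ≃+* F} {f : (Fin 3 → F) → (Fin 3 → F) → F}
variable (hf : Geo.IsUnitaryForm σ f)
include hf

/-- Two orthogonal isotropic vectors are dependent. -/
theorem mem_span_of_isotropic_orth {v w : Fin 3 → F} (hv0 : v ≠ 0) (hvv : f v v = 0)
    (hww : f w w = 0) (hwv : f w v = 0) : w ∈ Submodule.span F {v} := by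
  by_contra hn
  have hli : LinearIndependent F ![v, w] := by
    rw [LinearIndependent.pair_iff' hv0]
    exact fun a ha => hn (Submodule.mem_span_singleton.mpr ⟨a, ha⟩)
  have h2 := finrank_le_half hf (K := Submodule.span F (Set.range ![v, w])) fun x hx y hy => by
    rw [← span_pair_eq hf] at hx hy
    obtain ⟨a, b, rfl⟩ := Submodule.mem_span_pair.mp hx
    obtain ⟨a', b', rfl⟩ := Submodule.mem_span_pair.mp hy
    simp [hf.add_left, hf.smul_left, hadd_right hf, hsmul_right hf, hvv, hww, hwv,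
      hswap_zero hf hwv]
  rw [finrank_span_eq_card hli] at h2
  simp at h2

/-- A vector orthogonal to three independent vectors is zero. -/
theorem eq_zero_of_li {a b c : Fin 3 → F} (hli : LinearIndependent F ![a, b, c]) {y : Fin 3 → F}
    (ha : f y a = 0) (hb : f y b = 0) (hc : f y c = 0) : y = 0 := by
  by_contra hy0
  obtain ⟨u, hu⟩ := (hf.nondegenerate y hy0).2
  refine hu ?_
  have hker : (⊤ : Submodule F (Fin 3 → F)) ≤ LinearMap.ker (hl hf y) := by
    rw [← hli.span_eq_top_of_card_eq_finrank (by simp), Submodule.span_le]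
    rintro _ ⟨i, rfl⟩
    fin_cases i <;> simp [hswap_zero hf ha, hswap_zero hf hb, hswap_zero hf hc]
  exact hswap_zero hf (LinearMap.mem_ker.mp (hker (Submodule.mem_top (x := u))))

/-- A hyperbolic partner orthogonal to a non-isotropic vector. -/
theorem exists_partner {v e : Fin 3 → F} (hv0 : v ≠ 0) (hvv : f v v = 0) (hev : f e v = 0)
    (hee : f e e ≠ 0) : ∃ v', f v' v = 1 ∧ f v' v' = 0 ∧ f v' e = 0 := by
  have hn : v ∉ Submodule.span F {e} := fun h => by
    obtain ⟨r, rfl⟩ := Submodule.mem_span_singleton.mp h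
    rw [hsmul_right hf] at hev
    have hr : r = 0 := by simpa using (mul_eq_zero.mp hev).resolve_right hee
    exact hv0 (by rw [hr, zero_smul])
  obtain ⟨z, hz1, hz2⟩ := exists_dual hf hn
  have hze := (hz2 e (Submodule.mem_span_singleton_self e)).1
  obtain ⟨t, ht⟩ := exists_trace hf (r := -f z z) (by rw [map_neg, ← hf.herm])
  refine ⟨z + t • v, ?_, ?_, ?_⟩
  · rw [hf.add_left, hf.smul_left, hz1, hvv, mul_zero, add_zero]
  · rw [hf.add_left, hadd_right hf, hadd_right hf, hf.smul_left, hsmul_right hf, hf.smul_left,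
      hsmul_right hf, hz1, hvv, hf.herm v z, hz1, map_one]
    linear_combination ht
  · rw [hf.add_left, hf.smul_left, hze, hswap_zero hf hev, mul_zero, add_zero]

/-- A unipotent isometry fixing `v` and moving `e` along `v`. -/
theorem exists_heis {v e : Fin 3 → F} (hvv : f v v = 0) (hev : f e v = 0) (hee : f e e ≠ 0)
    (θ : F) : ∃ k : GL (Fin 3) F, k ∈ isom f ⊓ Geo.specialLinear (Fin 3) F ∧
      (k : Matrix (Fin 3) (Fin 3) F) *ᵥ v = v ∧
      (k : Matrix (Fin 3) (Fin 3) F) *ᵥ e = e + θ • v := by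
  have hve := hswap_zero hf hev
  obtain ⟨κ, hκ⟩ : ∃ κ, κ = -σ θ / f e e := ⟨_, rfl⟩
  have hκ' : σ κ = -θ / f e e := by
    rw [hκ, map_div₀, map_neg, hf.involutive, ← hf.herm]
  obtain ⟨η, hη⟩ := exists_trace hf (r := -(κ * σ κ * f e e)) (by
    simp only [map_neg, map_mul, hf.involutive, ← hf.herm e e]; ring)
  let A : Matrix (Fin 3) (Fin 2) F := Matrix.of fun i j => (![v, e] j) i
  let B : Matrix (Fin 2) (Fin 3) F :=
    Matrix.of fun j i => (![η • rep f v + (θ / f e e) • rep f e, κ • rep f v] j) i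
  have hval : ∀ x, (1 + A * B) *ᵥ x =
      x + (η * f x v + θ / f e e * f x e) • v + (κ * f x v) • e := by
    intro x
    have hB0 : (B *ᵥ x) 0 = η * f x v + θ / f e e * f x e := by
      show (η • rep f v + (θ / f e e) • rep f e) ⬝ᵥ x = _
      rw [add_dotProduct, smul_dotProduct, smul_dotProduct, hrep_dot hf, hrep_dot hf, smul_eq_mul,
        smul_eq_mul]
    have hB1 : (B *ᵥ x) 1 = κ * f x v := by
      show (κ • rep f v) ⬝ᵥ x = _
      rw [smul_dotProduct, hrep_dot hf, smul_eq_mul]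
    rw [add_mulVec, one_mulVec, ← mulVec_mulVec, add_assoc]
    congr 1
    funext i
    show (fun j => A i j) ⬝ᵥ (B *ᵥ x) = _
    rw [dotProduct, Fin.sum_univ_two, hB0, hB1]
    simp [A, mul_comm]
  have hBA : ∀ j l, (B * A) j l =
      (![η • rep f v + (θ / f e e) • rep f e, κ • rep f v] j) ⬝ᵥ (![v, e] l) := fun j l => rfl
  have hdet : (1 + A * B).det = 1 := by
    rw [det_one_add_mul_comm, det_fin_two]
    simp only [Matrix.add_apply, hBA]
    simp [hrep_dot hf, hvv, hev, hve]
  have hne : (1 + A * B).det ≠ 0 := by rw [hdet]; exact one_ne_zero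
  refine ⟨GeneralLinearGroup.mkOfDetNeZero _ hne, ⟨fun x y => ?_, Units.ext hdet⟩, ?_, ?_⟩
  · show f ((1 + A * B) *ᵥ x) ((1 + A * B) *ᵥ y) = f x y
    rw [hval, hval]
    simp only [hf.add_left, hadd_right hf, hf.smul_left, hsmul_right hf, hvv, hev, hve, map_add,
      map_mul, map_div₀, ← hf.herm v y, ← hf.herm e y, ← hf.herm e e, mul_zero, add_zero,
      zero_add]
    have hη' : η + σ η + κ * σ κ * f e e = 0 := by linear_combination hη
    linear_combination (f x v * f v y) * hη' + (f x v * f e y) * hκ + (f x e * f v y) * hκ'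
  · show (1 + A * B) *ᵥ v = _
    rw [hval, hvv, hve]
    simp
  · show (1 + A * B) *ᵥ e = _
    rw [hval, hev, div_mul_cancel₀ _ hee]
    simp

/-- Every vector is a sum of two isotropic vectors. -/
theorem split3 (x : Fin 3 → F) : ∃ a b, f a a = 0 ∧ f b b = 0 ∧ x = a + b := by
  by_cases hxx : f x x = 0
  · exact ⟨x, 0, hxx, hzero_left hf 0, (add_zero x).symm⟩
  obtain ⟨z, hz, hzz⟩ := exists_iso_vec hf ![x] (by simp) x (j := 0) (by simpa using hxx)
  have hz2 : f z x = f x x := by simpa using hz 0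
  obtain ⟨t, ht⟩ := exists_trace hf (r := -f x x) (by rw [map_neg, ← hf.herm])
  set μ := t / f x x with hμ
  refine ⟨x + μ • z, -(μ • z), ?_, ?_, by simp⟩
  · rw [hf.add_left, hadd_right hf, hadd_right hf, hf.smul_left, hsmul_right hf, hf.smul_left,
      hsmul_right hf, hzz, hf.herm x z, hz2, ← map_mul, hμ, div_mul_cancel₀ _ hxx]
    linear_combination ht
  · rw [← neg_smul, hf.smul_left, hsmul_right hf, hzz, mul_zero, mul_zero]

variable {c₀ : F} (hc₀ : c₀ ≠ 0) (hskew : c₀ + σ c₀ = 0)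
include hc₀ hskew

/-- An isotropic vector not orthogonal to two given isotropic vectors. -/
theorem exists_conn {a b : Fin 3 → F} (ha : a ≠ 0) (haa : f a a = 0) (hb : b ≠ 0)
    (hbb : f b b = 0) : ∃ z, z ≠ 0 ∧ f z z = 0 ∧ f z a ≠ 0 ∧ f z b ≠ 0 := by
  by_cases hab : f b a = 0
  · obtain ⟨r, hr⟩ := Submodule.mem_span_singleton.mp
      (mem_span_of_isotropic_orth hf ha haa hbb hab)
    obtain ⟨z₀, hz₀⟩ := (hf.nondegenerate a ha).1
    obtain ⟨z, hz, hzz⟩ := exists_iso_vec hf ![a] (by simp) z₀ (j := 0) (by simpa using hz₀)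
    have h1 : f z a ≠ 0 := by
      rw [show f z a = f z₀ a by simpa using hz 0]
      exact hz₀
    refine ⟨z, fun h => h1 (by rw [h, hzero_left hf]), hzz, h1, ?_⟩
    rw [← hr, hsmul_right hf]
    refine mul_ne_zero ?_ h1
    simp only [ne_eq, map_eq_zero]
    exact fun h0 => hb (by rw [← hr, h0, zero_smul])
  · have hiso := (mem_isom.mp (ut_mem_isom hf haa hskew)) b b
    rw [ut_mulVec hf haa] at hiso
    refine ⟨b + (c₀ * f b a) • a, ?_, by rw [hiso, hbb], ?_, ?_⟩
    · intro h
      have h' := congrArg (fun y => f y a) h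
      simp only [hf.add_left, hf.smul_left, haa, hzero_left hf, mul_zero, add_zero] at h'
      exact hab h'
    · simpa [hf.add_left, hf.smul_left, haa] using hab
    · rw [hf.add_left, hf.smul_left, hbb, zero_add]
      exact mul_ne_zero (mul_ne_zero hc₀ hab) (hswap_ne_zero hf hab)

variable {M : Subgroup (GL (Fin 3) F)} (hM : isom f ⊓ Geo.specialLinear (Fin 3) F ≤ M)
include hM

theorem ut_mem3 {v : Fin 3 → F} (hvv : f v v = 0) :
    c₀ • rep f v ∈ dualSet M v :=
  ⟨ut_dot hf hvv c₀, hM ⟨ut_mem_isom hf hvv hskew, tv_mem_specialLinear _ _⟩⟩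

/-- The group is irreducible. -/
theorem irreducible (W : Submodule F (Fin 3 → F))
    (hW : ∀ g ∈ M, ∀ x ∈ W, (g : Matrix (Fin 3) (Fin 3) F) *ᵥ x ∈ W) : W = ⊥ ∨ W = ⊤ := by
  refine or_iff_not_imp_left.mpr fun hne => ?_
  obtain ⟨w, hw, hw0⟩ := Submodule.exists_mem_ne_zero_of_ne_bot hne
  have hmem : ∀ x ∈ W, ∀ z, f z z = 0 → f z x ≠ 0 → z ∈ W := by
    intro x hx z hzz hzx
    have h := W.sub_mem (hW _ (hM ⟨ut_mem_isom hf hzz hskew, tv_mem_specialLinear _ _⟩) x hx) hx
    rw [ut_mulVec hf hzz, add_sub_cancel_left] at h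
    exact (Submodule.smul_mem_iff W (mul_ne_zero hc₀ (hswap_ne_zero hf hzx))).mp h
  obtain ⟨z₀, hz₀⟩ := (hf.nondegenerate w hw0).1
  obtain ⟨z, hz, hzz⟩ := exists_iso_vec hf ![w] (by simp) z₀ (j := 0) (by simpa using hz₀)
  have h1 : f z w ≠ 0 := by
    rw [show f z w = f z₀ w by simpa using hz 0]
    exact hz₀
  have hzW := hmem w hw z hzz h1
  have hz0 : z ≠ 0 := fun h => h1 (by rw [h, hzero_left hf])
  refine eq_top_iff.mpr fun x _ => ?_
  have hall : ∀ a, f a a = 0 → a ∈ W := by
    intro a haa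
    by_cases ha : a = 0
    · subst ha; exact W.zero_mem
    obtain ⟨y, -, hyy, hyz, hya⟩ := exists_conn hf hc₀ hskew hz0 hzz ha haa
    exact hmem y (hmem z hzW y hyy hyz) a haa (hswap_ne_zero hf hya)
  obtain ⟨a, b, ha, hb, rfl⟩ := split3 hf x
  exact W.add_mem (hall a ha) (hall b hb)

/-- An isotropic centre with a foreign axis has all the axes through itself. -/
theorem line_of_foreign {v w : Fin 3 → F} (hw : rep f w ∈ dualSet M v) (hv0 : v ≠ 0)
    (hvv : f v v = 0) (hwv : w ∉ Submodule.span F {v}) (t : F) : t • v ∈ repSet hf M v := by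
  have hwv0 : f w v = 0 := hswap_zero hf (by rw [← hrep_dot hf]; exact hw.1)
  have hww : f w w ≠ 0 := fun h => hwv (mem_span_of_isotropic_orth hf hv0 hvv h hwv0)
  obtain ⟨k, hk, hkv, hkw⟩ := exists_heis hf hvv hwv0 hww t
  have h1 := conj_mem_dualSet (hM hk) hw
  rw [hrep_vecMul_inv hf hk.1, hkv, hkw] at h1
  have h2 := sub_mem (show w + t • v ∈ repSet hf M v from h1) (show w ∈ repSet hf M v from hw)
  rwa [add_sub_cancel_left] at h2

/-- A foreign axis gives a full centre. -/
theorem full_of_foreign {v w : Fin 3 → F} (hw : rep f w ∈ dualSet M v) (hv0 : v ≠ 0)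
    (hvv : f v v = 0) (hwv : w ∉ Submodule.span F {v}) :
    ∃ d : Fin 3 → F, d ≠ 0 ∧ ∀ φ, φ ⬝ᵥ d = 0 → tv d φ ∈ M := by
  have hwv0 : f w v = 0 := hswap_zero hf (by rw [← hrep_dot hf]; exact hw.1)
  have hww : f w w ≠ 0 := fun h => hwv (mem_span_of_isotropic_orth hf hv0 hvv h hwv0)
  obtain ⟨v', hv'v, hv'v', hv'w⟩ := exists_partner hf hv0 hvv hwv0 hww
  have hvv' : f v v' = 1 := by rw [hf.herm, hv'v, map_one]
  have hv'0 : v' ≠ 0 := fun h => by rw [h, hzero_left hf] at hv'v; exact zero_ne_one hv'v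
  have hperp : rep f w ⬝ᵥ v' = 0 := by rw [hrep_dot hf, hv'w]
  have h1 := comm_mem_dualSet (ut_mem3 hf hc₀ hskew hM hv'v') hw hperp
  rw [smul_dotProduct, hrep_dot hf, hvv', smul_eq_mul, mul_one, ← hf.involutive c₀,
    ← hrep_smul hf] at h1
  have hnot : σ c₀ • w ∉ Submodule.span F {v'} := fun h => by
    obtain ⟨r, hr⟩ := Submodule.mem_span_singleton.mp h
    have h' := congrArg (fun y => f y v) hr
    simp only [hf.smul_left, hv'v, hwv0, mul_one, mul_zero] at h'
    rw [h', zero_smul, eq_comm, smul_eq_zero] at hr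
    rcases hr with h0 | h0
    · exact hc₀ (by simpa using h0)
    · exact hwv (by rw [h0]; exact zero_mem _)
  have hline := line_of_foreign hf hc₀ hskew hM h1 hv'0 hv'v' hnot
  have hFw : ∀ γ : F, γ • w ∈ repSet hf M v' := fun γ => by
    have h := comm_mem_dualSet (show rep f (γ • v') ∈ dualSet M v' from hline γ) hw hperp
    rwa [hrep_dot hf, hsmul_right hf, hvv', mul_one, ← hrep_smul hf] at h
  refine ⟨v', hv'0, fun φ hφ => ?_⟩
  obtain ⟨x, rfl⟩ := SL4Geo66.Unitary.exists_rep hf φ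
  rw [hrep_dot hf] at hφ
  have hxv' : f x v' = 0 := hswap_zero hf hφ
  suffices h : x = f x v • v' + (f x w / f w w) • w by
    have h2 : x ∈ repSet hf M v' := by
      rw [h]; exact add_mem (hline _) (hFw _)
    exact h2.2
  refine sub_eq_zero.mp (eq_zero_of_li hf (a := v) (b := v') (c := w) ?_ ?_ ?_ ?_)
  · rw [Fintype.linearIndependent_iff]
    intro g hg
    simp only [Fin.sum_univ_three] at hg
    simp at hg
    have key : ∀ t, g 0 * f v t + g 1 * f v' t + g 2 * f w t = 0 := fun t => by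
      rw [← hzero_left hf t, ← hg]
      simp only [hf.add_left, hf.smul_left]
    have g1 : g 1 = 0 := by simpa [hvv, hv'v, hwv0] using key v
    have g0 : g 0 = 0 := by simpa [hvv', hv'v', hswap_zero hf hv'w] using key v'
    have g2 : g 2 = 0 := by simpa [hswap_zero hf hwv0, hv'w, hww] using key w
    intro i
    fin_cases i <;> assumption
  · simp [hsub_left hf, hf.add_left, hf.smul_left, hv'v, hwv0]
  · simp [hsub_left hf, hf.add_left, hf.smul_left, hxv', hv'v', hswap_zero hf hv'w]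
  · simp [hsub_left hf, hf.add_left, hf.smul_left, hv'w, div_mul_cancel₀ _ hww]

/-- A transvection with orthogonal non-isotropic centre and axis gives a foreign axis. -/
theorem foreign_of_orth {u w : Fin 3 → F} (hw : rep f w ∈ dualSet M u) (huu : f u u ≠ 0)
    (hww : f w w ≠ 0) : ∃ v, v ≠ 0 ∧ f v v = 0 ∧ ∃ w',
      rep f w' ∈ dualSet M v ∧ w' ∉ Submodule.span F {v} := by
  have huw : f u w = 0 := by rw [← hrep_dot hf]; exact hw.1
  let L : (Fin 3 → F) →ₗ[F] (Fin 2 → F) := LinearMap.pi ![hl hf u, hl hf w]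
  obtain ⟨y, hy, hy0⟩ : ∃ y ∈ LinearMap.ker L, y ≠ 0 := by
    refine Submodule.exists_mem_ne_zero_of_ne_bot fun hb => ?_
    have h2 := LinearMap.finrank_range_add_finrank_ker L
    have h3 := Submodule.finrank_le (LinearMap.range L)
    rw [hb] at h2
    simp at h2 h3
    omega
  have hyu : f y u = 0 := by simpa [L] using congrFun hy 0
  have hyw : f y w = 0 := by simpa [L] using congrFun hy 1
  have hyy : f y y ≠ 0 := by
    intro h
    refine hy0 (eq_zero_of_li hf (a := u) (b := w) (c := y) ?_ hyu hyw h)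
    rw [Fintype.linearIndependent_iff]
    intro g hg
    simp only [Fin.sum_univ_three] at hg
    simp at hg
    have key : ∀ t, g 0 * f u t + g 1 * f w t + g 2 * f y t = 0 := fun t => by
      rw [← hzero_left hf t, ← hg]
      simp only [hf.add_left, hf.smul_left]
    have g0 : g 0 = 0 := by simpa [hswap_zero hf huw, hyu, huu] using key u
    have g1 : g 1 = 0 := by simpa [huw, hyw, hww] using key w
    have g2 : g 2 = 0 := by
      rw [g0, g1, zero_smul, zero_smul, zero_add, zero_add, smul_eq_zero] at hg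
      exact hg.resolve_right hy0
    intro i
    fin_cases i <;> assumption
  obtain ⟨s, hs⟩ := exists_norm hf (r := -f u u / f y y)
    (by rw [map_div₀, map_neg, ← hf.herm, ← hf.herm])
  set z := u + s • y with hz
  have hzz : f z z = 0 := by
    rw [hz, hf.add_left, hadd_right hf, hadd_right hf, hf.smul_left, hsmul_right hf, hf.smul_left,
      hsmul_right hf, hyu, hswap_zero hf hyu]
    field_simp at hs
    linear_combination hs
  have hzw : f z w = 0 := by simp [hz, hf.add_left, hf.smul_left, huw, hyw]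
  have huz : f u z = f u u := by simp [hz, hadd_right hf, hsmul_right hf, hswap_zero hf hyu]
  have hz0 : z ≠ 0 := fun h => huu (by rw [← huz, h, hzero_right hf])
  have h1 := comm_mem_dualSet (ut_mem3 hf hc₀ hskew hM hzz) hw (by rw [hrep_dot hf, hzw])
  rw [smul_dotProduct, hrep_dot hf, huz, smul_eq_mul, ← hf.involutive (c₀ * f u u),
    ← hrep_smul hf] at h1
  refine ⟨z, hz0, hzz, _, h1, fun h => ?_⟩
  obtain ⟨r, hr⟩ := Submodule.mem_span_singleton.mp h
  have h' := congrArg (fun x => f x w) hr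
  simp only [hf.smul_left, hzw, mul_zero] at h'
  exact mul_ne_zero (by simpa using mul_ne_zero hc₀ huu) hww h'.symm

/-- A transvection with non-isotropic centre gives an isotropic centre with a foreign axis. -/
theorem foreign_of_aniso {u w : Fin 3 → F} (hw : rep f w ∈ dualSet M u) (huu : f u u ≠ 0)
    (hw0 : w ≠ 0) : ∃ v, v ≠ 0 ∧ f v v = 0 ∧ ∃ w',
      rep f w' ∈ dualSet M v ∧ w' ∉ Submodule.span F {v} := by
  by_cases hww : f w w = 0
  swap
  · exact foreign_of_orth hf hc₀ hskew hM hw huu hww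
  have huw : f u w = 0 := by rw [← hrep_dot hf]; exact hw.1
  obtain ⟨z, hzw, hzz, hzu⟩ := exists_partner hf hw0 hww huw huu
  have huz := hswap_zero hf hzu
  have hwz : f w z = 1 := by rw [hf.herm, hzw, map_one]
  -- an isotropic line
  have h1 : c₀ • z ∈ repSet hf M u := by
    have hk := ut_mem_isom hf hzz hskew
    have h := conj_mem_dualSet (hM ⟨hk, tv_mem_specialLinear _ _⟩) hw
    rw [hrep_vecMul_inv hf hk, ut_mulVec hf hzz c₀ u, ut_mulVec hf hzz c₀ w, huz, mul_zero,
      zero_smul, add_zero, hwz, mul_one] at h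
    have h' := sub_mem (show w + c₀ • z ∈ repSet hf M u from h)
      (show w ∈ repSet hf M u from hw)
    rwa [add_sub_cancel_left] at h'
  have hFz : ∀ t : F, t • z ∈ repSet hf M u := fun t => by
    obtain ⟨k, hk, hkz, hku⟩ := exists_heis hf hzz huz huu (σ (t / c₀))
    have h2 := conj_mem_dualSet (hM hk) (show rep f (c₀ • z) ∈ dualSet M u from h1)
    rw [hrep_vecMul_inv hf hk.1, mulVec_smul, hkz, hku] at h2
    have h3 := comm_mem_dualSet hw h2 (by rw [hrep_dot hf, hsmul_right hf, huz, mul_zero])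
    rwa [hrep_dot hf, hf.add_left, hf.smul_left, huw, hzw, zero_add, mul_one, ← hrep_smul hf,
      smul_smul, div_mul_cancel₀ _ hc₀] at h3
  obtain ⟨t, ht⟩ := exists_trace hf (map_one σ)
  refine foreign_of_orth hf hc₀ hskew hM
    (show rep f (w + t • z) ∈ dualSet M u from
      add_mem (show w ∈ repSet hf M u from hw) (hFz t)) huu ?_
  rw [hf.add_left, hadd_right hf, hadd_right hf, hf.smul_left, hsmul_right hf, hf.smul_left,
    hsmul_right hf, hww, hzz, hzw, hwz]
  intro h
  exact one_ne_zero (ht.symm.trans (by linear_combination h))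

theorem main3 {g : GL (Fin 3) F} (hg : g ∈ M) (hgn : g ∉ Geo.similarityGroup f) :
    Geo.specialLinear (Fin 3) F ≤ M := by
  obtain ⟨v, hv0, hvv, w, hw, hwv⟩ : ∃ v, v ≠ 0 ∧ f v v = 0 ∧ ∃ w,
      rep f w ∈ dualSet M v ∧ w ∉ Submodule.span F {v} := by
    by_contra hno
    have himage : ∀ u, u ≠ 0 → f u u = 0 → ∃ μ : F,
        ∀ x, f ((g : Matrix (Fin 3) (Fin 3) F) *ᵥ x) ((g : Matrix (Fin 3) (Fin 3) F) *ᵥ u) =
          μ * f x u := by
      intro u hu huu
      set u' := (g : Matrix (Fin 3) (Fin 3) F) *ᵥ u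
      have h1 := conj_mem_dualSet hg (ut_mem3 hf hc₀ hskew hM huu)
      obtain ⟨w, hw⟩ := SL4Geo66.Unitary.exists_rep hf
        ((c₀ • rep f u) ᵥ* ((g⁻¹ : GL (Fin 3) F) : Matrix (Fin 3) (Fin 3) F))
      rw [← hw] at h1
      have hu' : u' ≠ 0 := mulVec_ne_zero g hu
      have hw0 : w ≠ 0 := fun h0 => by
        obtain ⟨x, hx⟩ := (hf.nondegenerate u hu).1
        have h := congrArg (fun φ => φ ⬝ᵥ ((g : Matrix (Fin 3) (Fin 3) F) *ᵥ x)) hw
        simp only [vecMul_inv_dotProduct, h0, hrep_zero hf, zero_dotProduct, smul_dotProduct,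
          hrep_dot hf, smul_eq_mul] at h
        exact mul_ne_zero hc₀ hx h.symm
      have huu' : f u' u' = 0 := by
        by_contra hne
        exact hno (foreign_of_aniso hf hc₀ hskew hM h1 hne hw0)
      obtain ⟨r, hr⟩ := Submodule.mem_span_singleton.mp
        (show w ∈ Submodule.span F {u'} from by
          by_contra hn
          exact hno ⟨u', hu', huu', w, h1, hn⟩)
      have hr0 : r ≠ 0 := fun h => hw0 (by rw [← hr, h, zero_smul])
      refine ⟨c₀ / σ r, fun x => ?_⟩
      have h := congrArg (fun φ => φ ⬝ᵥ ((g : Matrix (Fin 3) (Fin 3) F) *ᵥ x)) hw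
      simp only [← hr, hrep_smul hf, smul_dotProduct, vecMul_inv_dotProduct,
        hrep_dot hf, smul_eq_mul] at h
      rw [div_mul_eq_mul_div, eq_div_iff (by simpa using hr0), mul_comm]
      exact h
    choose μ hμ using himage
    -- all multipliers agree
    have hpair : ∀ a b, ∀ (ha : a ≠ 0) (ha' : f a a = 0) (hb : b ≠ 0) (hb' : f b b = 0),
        f a b ≠ 0 → μ b hb hb' = σ (μ a ha ha') := by
      intro a b ha ha' hb hb' hab
      have h1 := hμ b hb hb' a
      rw [hf.herm, hμ a ha ha' b, map_mul, ← hf.herm a b] at h1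
      exact (mul_right_cancel₀ hab h1).symm
    have hsame : ∀ a b, ∀ (ha : a ≠ 0) (ha' : f a a = 0) (hb : b ≠ 0) (hb' : f b b = 0),
        μ a ha ha' = μ b hb hb' := by
      intro a b ha ha' hb hb'
      obtain ⟨z, hz0, hzz, h1, h2⟩ := exists_conn hf hc₀ hskew ha ha' hb hb'
      rw [hpair z a hz0 hzz ha ha' h1, hpair z b hz0 hzz hb hb' h2]
    obtain ⟨e, he0, hee⟩ : ∃ e, e ≠ 0 ∧ f e e = 0 := by
      obtain ⟨x, hx⟩ := exists_ne (0 : Fin 3 → F)
      obtain ⟨a, b, ha, hb, rfl⟩ := split3 hf x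
      by_cases ha0 : a = 0
      · exact ⟨b, fun hb0 => hx (by rw [ha0, hb0, add_zero]), hb⟩
      · exact ⟨a, ha0, ha⟩
    have hall : ∀ x y,
        f ((g : Matrix (Fin 3) (Fin 3) F) *ᵥ x) ((g : Matrix (Fin 3) (Fin 3) F) *ᵥ y) =
          μ e he0 hee * f x y := by
      intro x y
      obtain ⟨a, b, haa, hbb, rfl⟩ := split3 hf y
      have h1 : ∀ a, f a a = 0 →
          f ((g : Matrix (Fin 3) (Fin 3) F) *ᵥ x) ((g : Matrix (Fin 3) (Fin 3) F) *ᵥ a) =
            μ e he0 hee * f x a := fun a haa => by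
        by_cases ha : a = 0
        · rw [ha, mulVec_zero, hzero_right hf, hzero_right hf, mul_zero]
        · rw [hμ a ha haa x, hsame a e ha haa he0 hee]
      rw [mulVec_add, hadd_right hf, hadd_right hf, h1 a haa, h1 b hbb, mul_add]
    have hne : μ e he0 hee ≠ 0 := fun h0 => by
      obtain ⟨x, hx⟩ := (hf.nondegenerate _ (mulVec_ne_zero g he0)).1
      rw [← mulVec_inv_mulVec g x, hall, h0, zero_mul] at hx
      exact hx rfl
    exact hgn ⟨Units.mk0 _ hne, hall⟩
  obtain ⟨d, hd0, hd⟩ := full_of_foreign hf hc₀ hskew hM hw hv0 hvv hwv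
  exact specialLinear_le_of_full (irreducible hf hc₀ hskew hM) hd0 hd

end Cfsg.Agent.SL3Geo32.Unitary

namespace Cfsg.Agent.SL3Geo32

open Matrix Cfsg.Agent.MaxSub Cfsg.Agent.GeomMax32.Unitary

/-- The similitudes of a unitary form are maximal in `SL₃`. -/
theorem unitary_maximal {F : Type*} [Field F] [Fintype F] :
    ∀ (σ : F ≃+* F) (f : (Fin 3 → F) → (Fin 3 → F) → F), Cfsg.Geo.IsUnitaryForm σ f →
      Cfsg.Geo.IsMaximalIn (Cfsg.Geo.specialLinear (Fin 3) F)
        (Cfsg.Geo.similarityGroup f ⊓ Cfsg.Geo.specialLinear (Fin 3) F) := by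
  intro σ f hf
  obtain ⟨c₀, hc₀, hskew⟩ := exists_skew hf
  refine isMaximalIn_of inf_le_right ?_ fun M hHM hMK g hg hgH => ?_
  · -- a transvection which is not a similitude
    obtain ⟨v, hv1, hvv, -⟩ := exists_iso_dual hf (U := ⊥) (a := (Pi.single 0 1 : Fin 3 → F))
      (by simp) (![] : Fin 0 → Fin 3 → F) (by simp) (by simp)
    have hv0 : v ≠ 0 := fun h => by simp [h, hzero_left hf] at hv1
    obtain ⟨y, hy⟩ := (hf.nondegenerate v hv0).2
    obtain ⟨φ, hφ, x, hφx⟩ : ∃ φ : Fin 3 → F,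
        (φ ⬝ᵥ v = 0 ∧ φ ⬝ᵥ y = 0) ∧ ∃ x, φ ⬝ᵥ x = 1 := by
      have hlt : Submodule.span F (Set.range ![v, y]) < ⊤ := by
        refine lt_top_iff_ne_top.mpr fun h => ?_
        have h3 := finrank_range_le_card (R := F) ![v, y]
        rw [Set.finrank, h, finrank_top] at h3
        simp at h3
      obtain ⟨x, -, hx⟩ := SetLike.exists_of_lt hlt
      obtain ⟨φ, hφ, hφx⟩ := exists_annihilator hx
      exact ⟨φ, ⟨hφ v (Submodule.subset_span ⟨0, rfl⟩), hφ y (Submodule.subset_span ⟨1, rfl⟩)⟩,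
        x, hφx⟩
    refine ⟨tv v φ, tv_mem_specialLinear v φ, fun hmem => ?_⟩
    obtain ⟨c, hc⟩ := hmem.1
    have key : ∀ a b, φ ⬝ᵥ b = 0 → f a b + (φ ⬝ᵥ a) * f v b = (c : F) * f a b := by
      intro a b hb
      rw [← hc a b, tv_mulVec hφ.1, tv_mulVec hφ.1, hb, zero_smul, add_zero, hf.add_left,
        hf.smul_left]
    have hc1 : (c : F) = 1 := by
      have h := key v y hφ.2
      rw [hφ.1, zero_mul, add_zero] at h
      exact (mul_eq_right₀ hy).mp h.symm
    have h := key x y hφ.2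
    rw [hc1, one_mul, hφx, one_mul] at h
    exact hy (by simpa using h)
  · refine Unitary.main3 hf hc₀ hskew (fun k hk => hHM ⟨⟨1, fun a b => ?_⟩, hk.2⟩) hg
      fun hs => hgH ⟨hs, hMK hg⟩
    exact (hk.1 a b).trans (one_mul _).symm

end Cfsg.Agent.SL3Geo32
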