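import Cfsg.Agent.SL3Geo32.Basic
import Cfsg.Agent.SL3Geo34.Std

/-!
Class six of S5774, the part about the characteristic (helper32, proof by helper34 and helper32): over
a prime field an irreducible group with a transvection contains the special linear group, and a group
without transvections containing the normaliser of the extraspecial group has order prime to `p`.

For the second, a non-trivial `p`-element is regular unipotent, the stabiliser of its fixed point is
the stabiliser of its fixed line and normalises it; the orbit of the fixed point then is either the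
whole plane, which is refuted by the involution, or a union of `k` parabolas, which is refuted by a
count of the points on the lines parallel to an axis.
-/

set_option autoImplicit false
set_option linter.unusedSectionVars false
set_option linter.unusedSimpArgs false
open Cfsg

namespace Cfsg.Agent.SL3Geo32.Regular

open Matrix Cfsg.Agent.MaxSub
open SL3Geo34 (IsTransvec stA stB stS)

variable {F : Type*} [Field F] [Fintype F]

/-! ### A transvection in an irreducible group -/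

theorem exists_natCast_eq (hF : (Fintype.card F).Prime) (c : F) : ∃ m : ℕ, (m : F) = c := by
  have : Fact (Fintype.card F).Prime := ⟨hF⟩
  obtain ⟨e⟩ : Nonempty (ZMod (Fintype.card F) ≃+* F) := ⟨ZMod.ringEquivOfPrime F hF rfl⟩
  obtain ⟨m, hm⟩ := ZMod.natCast_zmod_surjective (e.symm c)
  exact ⟨m, by rw [← map_natCast e, hm, RingEquiv.apply_symm_apply]⟩

theorem smul_mem_addSubgroup (hF : (Fintype.card F).Prime) {A : AddSubgroup (Fin 3 → F)}
    {φ : Fin 3 → F} (hφ : φ ∈ A) (c : F) : c • φ ∈ A := by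
  obtain ⟨m, rfl⟩ := exists_natCast_eq hF c
  rw [Nat.cast_smul_eq_nsmul]
  exact nsmul_mem hφ m

/-- A functional killing two independent vectors of the plane is determined up to a scalar. -/
theorem exists_smul_of_perp {v φ ψ χ : Fin 3 → F} (hv : v ≠ 0) (hli : LinearIndependent F ![φ, ψ])
    (h1 : φ ⬝ᵥ v = 0) (h2 : ψ ⬝ᵥ v = 0) (h3 : χ ⬝ᵥ v = 0) : ∃ a b : F, a • φ + b • ψ = χ := by
  let E : (Fin 3 → F) →ₗ[F] F :=
    { toFun := fun y => y ⬝ᵥ v, map_add' := fun a b => add_dotProduct a b v,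
      map_smul' := fun c a => smul_dotProduct c a v }
  obtain ⟨i, hi⟩ := Function.ne_iff.mp hv
  have hsur : LinearMap.range E = ⊤ := LinearMap.range_eq_top.mpr fun r =>
    ⟨Pi.single i (r / v i), by
      show Pi.single i (r / v i) ⬝ᵥ v = r
      rw [single_dotProduct]
      exact div_mul_cancel₀ r (by simpa using hi)⟩
  have hker : Module.finrank F (LinearMap.ker E) = 2 := by
    have h := LinearMap.finrank_range_add_finrank_ker E
    rw [hsur] at h
    simp at h
    omega
  have hle : Submodule.span F (Set.range ![φ, ψ]) ≤ LinearMap.ker E := by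
    rw [Submodule.span_le]
    rintro _ ⟨j, rfl⟩
    fin_cases j
    · exact h1
    · exact h2
  have he := Submodule.eq_of_le_of_finrank_eq hle
    (by rw [finrank_span_eq_card hli, hker, Fintype.card_fin])
  have hχ : χ ∈ Submodule.span F (Set.range ![φ, ψ]) := he ▸ (show χ ∈ LinearMap.ker E from h3)
  rwa [Matrix.range_cons, Matrix.range_cons, Matrix.range_empty, Set.union_empty,
    Set.singleton_union, Submodule.mem_span_pair] at hχ

theorem pair_indep {φ ψ y : Fin 3 → F} (hψ : ψ ≠ 0) (h1 : φ ⬝ᵥ y ≠ 0) (h2 : ψ ⬝ᵥ y = 0) :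
    LinearIndependent F ![φ, ψ] := by
  rw [LinearIndependent.pair_iff]
  intro s t h
  have h' := congrArg (fun z => z ⬝ᵥ y) h
  simp only [add_dotProduct, smul_dotProduct, smul_eq_mul, h2, mul_zero, add_zero,
    zero_dotProduct] at h'
  have hs : s = 0 := (mul_eq_zero.mp h').resolve_right h1
  rw [hs, zero_smul, zero_add, smul_eq_zero] at h
  exact ⟨hs, h.resolve_right hψ⟩

/-- Over a prime field an irreducible group with a transvection contains the special linear group. -/
theorem sl_le_of_transvec (hF : (Fintype.card F).Prime) {M : Subgroup (GL (Fin 3) F)}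
    (hirr : ∀ W : Submodule F (Fin 3 → F),
      (∀ g ∈ M, ∀ x ∈ W, (g : Matrix (Fin 3) (Fin 3) F) *ᵥ x ∈ W) → W = ⊥ ∨ W = ⊤)
    {g : GL (Fin 3) F} (hg : g ∈ M) (hgt : IsTransvec g) :
    Geo.specialLinear (Fin 3) F ≤ M := by
  -- the centre and the axis of `g`
  obtain ⟨v, φ, hv, hφ, hd⟩ : ∃ v φ, v ≠ 0 ∧ φ ≠ 0 ∧ φ ∈ dualSet M v := by
    set N := (g : Matrix (Fin 3) (Fin 3) F) - 1 with hN
    have hN0 : N ≠ 0 := fun h => hgt.1 (Units.ext (sub_eq_zero.mp h))
    obtain ⟨x, hx⟩ : ∃ x, N *ᵥ x ≠ 0 := by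
      by_contra hc
      simp only [not_exists, not_not] at hc
      exact hN0 (Matrix.ext_iff_mulVec.mpr fun x => by rw [hc x, Matrix.zero_mulVec])
    set v := N *ᵥ x with hv
    have hle : LinearMap.range N.mulVecLin ≤ LinearMap.ker N.mulVecLin := by
      rintro _ ⟨y, rfl⟩
      show N *ᵥ (N *ᵥ y) = 0
      rw [mulVec_mulVec, show N * N = 0 from hgt.2, Matrix.zero_mulVec]
    have hr1 : Module.finrank F (LinearMap.range N.mulVecLin) ≤ 1 := by
      have h1 := LinearMap.finrank_range_add_finrank_ker N.mulVecLin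
      have h2 := Submodule.finrank_mono hle
      simp at h1
      omega
    have hcol : ∀ j, ∃ c : F, c • v = N *ᵥ Pi.single j 1 := by
      have hs : Submodule.span F {v} = LinearMap.range N.mulVecLin :=
        Submodule.eq_of_le_of_finrank_le
          ((Submodule.span_singleton_le_iff_mem _ _).mpr ⟨x, rfl⟩)
          (by rw [finrank_span_singleton hx]; exact hr1)
      exact fun j => Submodule.mem_span_singleton.mp (hs ▸ ⟨Pi.single j 1, rfl⟩)
    choose φ hφ using hcol
    have hNv : N = vecMulVec v φ := by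
      ext i j
      have h := congrFun (hφ j) i
      simp only [mulVec_single_one, Pi.smul_apply, smul_eq_mul] at h
      rw [vecMulVec_apply, mul_comm, h]
      rfl
    have h0 : φ ⬝ᵥ v = 0 := by
      have h : N *ᵥ v = 0 := hle ⟨x, rfl⟩
      rw [hNv, vecMulVec_mulVec, op_smul_eq_smul, smul_eq_zero] at h
      exact h.resolve_right hx
    refine ⟨v, φ, hx, fun h => hN0 (by rw [hNv, h, vecMulVec_zero]), h0, ?_⟩
    convert hg using 1
    exact Units.ext (by rw [tv_coe h0, ← hNv, hN, add_sub_cancel])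
  by_contra hcon
  have hno : ∀ {v w φ ψ : Fin 3 → F}, φ ∈ dualSet M v → ψ ∈ dualSet M w → v ≠ 0 → ψ ≠ 0 →
      ψ ⬝ᵥ v = 0 → φ ⬝ᵥ w = 0 := by
    intro v w φ ψ hφ hψ hv hψ0 hψv
    by_contra hne
    refine hcon (specialLinear_le_of_full hirr hv fun χ hχ => ?_)
    obtain ⟨a, b, rfl⟩ :=
      exists_smul_of_perp hv (pair_indep hψ0 hne hψ.1) hφ.1 hψv hχ
    have h2 := smul_mem_addSubgroup hF (comm_mem_dualSet hφ hψ hψv) (b / (φ ⬝ᵥ w))
    rw [smul_smul, div_mul_cancel₀ _ hne] at h2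
    exact (add_mem (smul_mem_addSubgroup hF hφ a) h2).2
  -- the centres span
  let S := Submodule.span F {x : Fin 3 → F | x ≠ 0 ∧ ∃ χ, χ ≠ 0 ∧ χ ∈ dualSet M x}
  have hS : S = ⊤ := by
    refine (hirr S fun k hk x hx => ?_).resolve_left fun h => hv ?_
    · have hmap : S ≤ S.comap (k : Matrix (Fin 3) (Fin 3) F).mulVecLin := by
        rw [Submodule.span_le]
        rintro y ⟨hy, χ, hχ, hd⟩
        refine Submodule.subset_span ⟨mulVec_ne_zero k hy, _, fun h => hχ ?_,
          conj_mem_dualSet hk hd⟩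
        have h' := congrArg (fun z => z ᵥ* (k : Matrix (Fin 3) (Fin 3) F)) h
        simpa [vecMul_vecMul] using h'
      exact hmap hx
    · exact (Submodule.mem_bot F).mp (h ▸ Submodule.subset_span ⟨hv, φ, hφ, hd⟩)
  have hout : ∀ W : Submodule F (Fin 3 → F), W ≠ ⊤ →
      ∃ x χ, x ∉ W ∧ x ≠ 0 ∧ χ ≠ 0 ∧ χ ∈ dualSet M x := by
    intro W hW
    by_contra hc
    simp only [not_exists, not_and] at hc
    refine hW (eq_top_iff.mpr (hS ▸ Submodule.span_le.mpr ?_))
    rintro x ⟨hx, χ, hχ, hd⟩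
    by_contra hxW
    exact hc x χ hxW hx hχ hd
  have hout' : ∀ χ : Fin 3 → F, χ ≠ 0 → ∃ x ξ, χ ⬝ᵥ x ≠ 0 ∧ x ≠ 0 ∧ ξ ≠ 0 ∧ ξ ∈ dualSet M x := by
    intro χ hχ
    obtain ⟨i, hi⟩ := Function.ne_iff.mp hχ
    let E : (Fin 3 → F) →ₗ[F] F :=
      { toFun := fun y => χ ⬝ᵥ y, map_add' := dotProduct_add χ,
        map_smul' := fun c y => dotProduct_smul c χ y }
    obtain ⟨x, ξ, h1, h2, h3, h4⟩ := hout (LinearMap.ker E) fun h => by
      have h1 : χ ⬝ᵥ Pi.single i 1 = 0 :=
        (h.symm ▸ Submodule.mem_top : Pi.single i (1 : F) ∈ LinearMap.ker E)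
      simp at h1
      exact hi (by simpa using h1)
    exact ⟨x, ξ, h1, h2, h3, h4⟩
  -- an axis has only one centre
  have haxis : ∀ {z y χ : Fin 3 → F}, χ ≠ 0 → χ ∈ dualSet M z → χ ∈ dualSet M y →
      LinearIndependent F ![z, y] → False := by
    intro z y χ hχ hz hy hli
    obtain ⟨x, ξ, hx, hx0, hξ, hd⟩ := hout' χ hχ
    rw [LinearIndependent.pair_iff] at hli
    have hzy : z ≠ 0 := fun h => one_ne_zero (hli 1 0 (by simp [h])).1
    set a := ξ ⬝ᵥ y
    set b := ξ ⬝ᵥ z
    by_cases hb : b = 0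
    · exact hx (hno hz hd hzy hξ hb)
    have hne : a • z + (-b) • y ≠ 0 := fun h => hb (by simpa using (hli _ _ h).2)
    refine hx (hno (v := a • z + (-b) • y) ?_ hd hne hξ ?_)
    · refine mem_centreSet.mp (add_mem (mem_centreSet.mpr ⟨?_, ?_⟩) (mem_centreSet.mpr ⟨?_, ?_⟩))
      · rw [dotProduct_smul, hz.1, smul_zero]
      · rw [tv_smul_comm _ hz.1]
        exact (smul_mem_addSubgroup hF hz a).2
      · rw [dotProduct_smul, hy.1, smul_zero]
      · rw [tv_smul_comm _ hy.1]
        exact (smul_mem_addSubgroup hF hy (-b)).2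
    · rw [dotProduct_add, dotProduct_smul, dotProduct_smul, smul_eq_mul, smul_eq_mul]
      ring
  -- a second transvection, not orthogonal to the first, and the common fixed point `u`
  obtain ⟨w, ψ, hφw, hw, hψ, hdw⟩ := hout' φ hφ
  have hψv : ψ ⬝ᵥ v ≠ 0 := fun h => hφw (hno hd hdw hv hψ h)
  have hφψ : LinearIndependent F ![φ, ψ] := pair_indep hψ hφw hdw.1
  have hvw : LinearIndependent F ![v, w] := by
    rw [LinearIndependent.pair_iff]
    intro s t h
    have h1 := congrArg (fun y => φ ⬝ᵥ y) h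
    simp only [dotProduct_add, dotProduct_smul, smul_eq_mul, hd.1, mul_zero, zero_add,
      dotProduct_zero] at h1
    have ht : t = 0 := (mul_eq_zero.mp h1).resolve_right hφw
    rw [ht, zero_smul, add_zero, smul_eq_zero] at h
    exact ⟨h.resolve_right hv, ht⟩
  have hcentre : ∀ a b : F, a • v + b • w ≠ 0 →
      ∃ χ, χ ≠ 0 ∧ (∃ r s : F, χ = r • φ + s • ψ) ∧ χ ∈ dualSet M (a • v + b • w) := by
    intro a b hne
    by_cases ha : a = 0
    · subst ha
      have hb : b ≠ 0 := fun h => hne (by simp [h])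
      refine ⟨b⁻¹ • ψ, smul_ne_zero (inv_ne_zero hb) hψ, ⟨0, b⁻¹, by simp⟩, ?_, ?_⟩
      · simp [hdw.1]
      · rw [zero_smul, zero_add, tv_smul_comm _ (by simp [hdw.1]), smul_smul,
          mul_inv_cancel₀ hb, one_smul]
        exact hdw.2
    · set c := b / (a * (ψ ⬝ᵥ v)) with hc
      have h0 : (c • ψ) ⬝ᵥ w = 0 := by simp [hdw.1]
      have hk : tv w (c • ψ) ∈ M := (smul_mem_addSubgroup hF hdw c).2
      set k := tv w (c • ψ) with hkdef
      have hkv : (k : Matrix (Fin 3) (Fin 3) F) *ᵥ (a • v) = a • v + b • w := by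
        rw [hkdef, tv_mulVec h0, smul_dotProduct, dotProduct_smul, smul_eq_mul, smul_eq_mul, hc]
        congr 2
        field_simp
      have hφk : φ ᵥ* ((k⁻¹ : GL (Fin 3) F) : Matrix (Fin 3) (Fin 3) F) =
          φ + (-(c * (φ ⬝ᵥ w))) • ψ := by
        rw [hkdef, tv_inv_coe h0, vecMul_sub, vecMul_one, vecMul_vecMulVec, smul_smul,
          neg_smul, ← sub_eq_add_neg, mul_comm]
      have hd' : a⁻¹ • φ ∈ dualSet M (a • v) :=
        ⟨by simp [hd.1], by
          rw [tv_smul_comm _ (by simp [hd.1]), smul_smul, mul_inv_cancel₀ ha, one_smul]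
          exact hd.2⟩
      have h1 := conj_mem_dualSet hk hd'
      rw [hkv, smul_vecMul, hφk, smul_add, smul_smul] at h1
      refine ⟨_, fun h => ?_, ⟨a⁻¹, a⁻¹ * -(c * (φ ⬝ᵥ w)), rfl⟩, h1⟩
      exact inv_ne_zero ha ((LinearIndependent.pair_iff.mp hφψ) _ _ h).1
  obtain ⟨u, hu0, hφu, hψu⟩ : ∃ u, u ≠ 0 ∧ φ ⬝ᵥ u = 0 ∧ ψ ⬝ᵥ u = 0 := by
    let L : (Fin 3 → F) →ₗ[F] (Fin 2 → F) := (Matrix.of ![φ, ψ]).mulVecLin
    obtain ⟨u, hu, hu0⟩ : ∃ u ∈ LinearMap.ker L, u ≠ 0 := by
      refine Submodule.exists_mem_ne_zero_of_ne_bot fun hb => ?_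
      have h2 := LinearMap.finrank_range_add_finrank_ker L
      have h3 := Submodule.finrank_le (LinearMap.range L)
      rw [hb] at h2
      simp at h2 h3
      omega
    exact ⟨u, hu0, congrFun hu 0, congrFun hu 1⟩
  -- a third one
  obtain ⟨z, θ, hz, hz0, hθ, hdz⟩ := hout (Submodule.span F (Set.range ![v, w])) fun h => by
    have h2 := finrank_range_le_card (R := F) ![v, w]
    rw [Set.finrank, h, finrank_top] at h2
    simp at h2
  rw [Matrix.range_cons, Matrix.range_cons, Matrix.range_empty, Set.union_empty,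
    Set.singleton_union, Submodule.mem_span_pair] at hz
  set a := (ψ ⬝ᵥ z) / (ψ ⬝ᵥ v) with ha
  set b := (φ ⬝ᵥ z) / (φ ⬝ᵥ w) with hb
  set γ := a • v + b • w with hγ
  have hzu : ∀ χ : Fin 3 → F, χ ⬝ᵥ (z - γ) = χ ⬝ᵥ z - χ ⬝ᵥ γ := fun χ => dotProduct_sub _ _ _
  have hφzγ : φ ⬝ᵥ (z - γ) = 0 := by
    simp [hγ, hd.1, hb, div_mul_cancel₀ _ hφw]
  have hψzγ : ψ ⬝ᵥ (z - γ) = 0 := by
    simp [hγ, hdw.1, ha, div_mul_cancel₀ _ hψv]
  have hne : z - γ ≠ 0 := fun h => hz ⟨a, b, (sub_eq_zero.mp h).symm⟩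
  by_cases hγ0 : γ = 0
  · rw [hγ0, sub_zero] at hφzγ hψzγ hne
    have h1 := hno hdz hd hne hφ hφzγ
    have h2 := hno hdz hdw hne hψ hψzγ
    -- `θ` kills the basis `v, w, z`
    have hli : LinearIndependent F ![v, w, z] := by
      rw [Fintype.linearIndependent_iff]
      intro c hc
      simp only [Fin.sum_univ_three] at hc
      simp at hc
      have e1 := congrArg (fun y => φ ⬝ᵥ y) hc
      have e2 := congrArg (fun y => ψ ⬝ᵥ y) hc
      simp [hd.1, hφw, hφzγ] at e1
      simp [hdw.1, hψv, hψzγ] at e2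
      rw [e1, e2, zero_smul, zero_smul, zero_add, zero_add, smul_eq_zero] at hc
      intro i
      fin_cases i
      · exact e2
      · exact e1
      · exact hc.resolve_right hne
    refine hθ (dotProduct_eq_zero _ fun y => ?_)
    have hy : y ∈ Submodule.span F (Set.range ![v, w, z]) := by
      rw [hli.span_eq_top_of_card_eq_finrank (by simp)]; trivial
    obtain ⟨c, rfl⟩ := (Submodule.mem_span_range_iff_exists_fun F).mp hy
    simp [Fin.sum_univ_three, h1, h2, hdz.1]
  · obtain ⟨χ, hχ, ⟨r, s, hrs⟩, hdγ⟩ := hcentre a b hγ0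
    have hχzγ : χ ⬝ᵥ (z - γ) = 0 := by
      rw [hrs, add_dotProduct, smul_dotProduct, smul_dotProduct, hφzγ, hψzγ, smul_zero,
        smul_zero, add_zero]
    have hχz : χ ⬝ᵥ z = 0 := by
      have h := hzu χ
      rwa [hχzγ, hdγ.1, sub_zero, eq_comm] at h
    have hθγ : θ ⬝ᵥ γ = 0 := hno hdz hdγ hz0 hχ hχz
    have hli : LinearIndependent F ![z, γ] := by
      rw [LinearIndependent.pair_iff' hz0]
      intro c hc
      have hc0 : c ≠ 0 := fun h => hγ0 (by rw [← hc, h, zero_smul])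
      exact hz ⟨c⁻¹ * a, c⁻¹ * b, by
        rw [← smul_smul, ← smul_smul, ← smul_add, ← hγ, ← hc, inv_smul_smul₀ hc0]⟩
    -- `θ` and `χ` are proportional
    by_cases hdep : LinearIndependent F ![χ, θ]
    · obtain ⟨i, hi⟩ := Function.ne_iff.mp hχ
      have key : ∀ y : Fin 3 → F, y ⬝ᵥ z = 0 → y ⬝ᵥ γ = 0 := by
        intro y hy
        obtain ⟨c, d, rfl⟩ := exists_smul_of_perp hz0 hdep hχz hdz.1 hy
        have hχγ : χ ⬝ᵥ γ = 0 := hdγ.1
        simp [hχγ, hθγ]
      rw [LinearIndependent.pair_iff' hz0] at hli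
      obtain ⟨j, hj⟩ := Function.ne_iff.mp hz0
      simp only [Pi.zero_apply] at hj
      refine hli (γ j / z j) (funext fun k => ?_)
      have h := key (Pi.single k (z j) - Pi.single j (z k)) (by simp [sub_dotProduct]; ring)
      simp [sub_dotProduct] at h
      simp only [Pi.smul_apply, smul_eq_mul]
      field_simp
      linear_combination -h
    · rw [LinearIndependent.pair_iff' hχ] at hdep
      simp only [not_forall, not_not] at hdep
      obtain ⟨c, rfl⟩ := hdep
      have hc0 : c ≠ 0 := fun h => hθ (by rw [h, zero_smul])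
      have h := smul_mem_addSubgroup hF hdz c⁻¹
      rw [inv_smul_smul₀ hc0] at h
      exact haxis hχ h hdγ hli

/-! ### The stabiliser of the fixed point of a regular unipotent element -/

/-- The one-parameter group of a regular unipotent element. -/
def TM (t : F) : Matrix (Fin 3) (Fin 3) F := !![1, 2 * t, t ^ 2; 0, 1, t; 0, 0, 1]

theorem TM_mul (s t : F) : TM s * TM t = TM (s + t) := by
  ext i j
  fin_cases i <;> fin_cases j <;> simp [TM, Matrix.mul_apply, Fin.sum_univ_three] <;> ring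

theorem TM_zero : TM (0 : F) = 1 := by
  ext i j
  fin_cases i <;> fin_cases j <;> simp [TM]


@[simp] theorem TM_apply00 (t : F) : TM t 0 0 = 1 := rfl

@[simp] theorem TM_apply01 (t : F) : TM t 0 1 = 2 * t := rfl

@[simp] theorem TM_apply02 (t : F) : TM t 0 2 = t ^ 2 := rfl

@[simp] theorem TM_apply10 (t : F) : TM t 1 0 = 0 := rfl

@[simp] theorem TM_apply11 (t : F) : TM t 1 1 = 1 := rfl

@[simp] theorem TM_apply12 (t : F) : TM t 1 2 = t := rfl

@[simp] theorem TM_apply20 (t : F) : TM t 2 0 = 0 := rfl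

@[simp] theorem TM_apply21 (t : F) : TM t 2 1 = 0 := rfl

@[simp] theorem TM_apply22 (t : F) : TM t 2 2 = 1 := rfl

/-- `TM` as an element of the general linear group. -/
def TG (t : F) : GL (Fin 3) F :=
  ⟨TM t, TM (-t), by rw [TM_mul, add_neg_cancel, TM_zero], by rw [TM_mul, neg_add_cancel, TM_zero]⟩

@[simp] theorem TG_coe (t : F) : (TG t : Matrix (Fin 3) (Fin 3) F) = TM t := rfl

theorem TG_mul (s t : F) : TG s * TG t = TG (s + t) := Units.ext (TM_mul s t)

theorem TG_mem (hF : (Fintype.card F).Prime) {M : Subgroup (GL (Fin 3) F)} (hx : TG 1 ∈ M) (t : F) :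
    TG t ∈ M := by
  obtain ⟨m, rfl⟩ := exists_natCast_eq hF t
  induction m with
  | zero =>
    convert one_mem M
    exact Units.ext (by simpa using TM_zero)
  | succ k ih => rw [Nat.cast_succ, ← TG_mul]; exact mul_mem ih hx

variable {M : Subgroup (GL (Fin 3) F)}

/-- Two elements commute when their commutator would be a transvection. -/
theorem commute_of (hno : ∀ g ∈ M, ¬ IsTransvec g) {y z : GL (Fin 3) F} (hy : y ∈ M) (hz : z ∈ M)
    (hD : ((y * z : GL (Fin 3) F).1 - (z * y : GL (Fin 3) F).1) * (z * y : GL (Fin 3) F)⁻¹.1 *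
      ((y * z : GL (Fin 3) F).1 - (z * y : GL (Fin 3) F).1) = 0) : y * z = z * y := by
  by_contra hne
  refine hno ((y * z) * (z * y)⁻¹) (mul_mem (mul_mem hy hz) (inv_mem (mul_mem hz hy)))
    ⟨fun h => hne (mul_inv_eq_one.mp h), ?_⟩
  have e : ((y * z) * (z * y)⁻¹ : GL (Fin 3) F).1 - 1 =
      ((y * z : GL (Fin 3) F).1 - (z * y : GL (Fin 3) F).1) * (z * y : GL (Fin 3) F)⁻¹.1 := by
    rw [sub_mul, Units.mul_inv, ← Units.val_mul]
  rw [e, ← Matrix.mul_assoc, hD, Matrix.zero_mul]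

variable (hF : (Fintype.card F).Prime) (h2 : (2 : F) ≠ 0)
  (hno : ∀ g ∈ M, ¬ IsTransvec g) (hx : TG 1 ∈ M)

include hno hx in
/-- An element fixing the flag and trivial on its factors commutes with the regular element. -/
theorem commute_point {y : GL (Fin 3) F} (hy : y ∈ M) (h10 : y.1 1 0 = 0) (h20 : y.1 2 0 = 0)
    (h21 : y.1 2 1 = 0) (h12 : y.1 1 1 = y.1 2 2) : y * TG 1 = TG 1 * y := by
  refine commute_of hno hy hx ?_
  obtain ⟨E, hE⟩ : ∃ E : Matrix (Fin 3) (Fin 3) F, E = (TG 1 * y)⁻¹.1 := ⟨_, rfl⟩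
  have h : E * (TM 1 * y.1) = 1 := by
    rw [hE, show TM (1 : F) * y.1 = (TG 1 * y).1 from rfl, Units.inv_mul]
  rw [← hE]
  have e0 := congrFun (congrFun h 0) 0
  have e1 := congrFun (congrFun h 1) 0
  have e2 := congrFun (congrFun h 2) 0
  simp [Matrix.mul_apply, Fin.sum_univ_three, h10, h20] at e0 e1 e2
  have hk : y.1 0 0 ≠ 0 := right_ne_zero_of_mul_eq_one e0
  replace e1 := e1.resolve_right hk
  replace e2 := e2.resolve_right hk
  obtain ⟨D, hD⟩ : ∃ D : Matrix (Fin 3) (Fin 3) F, D = (y * TG 1).1 - (TG 1 * y).1 := ⟨_, rfl⟩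
  have d : D 0 0 = 0 ∧ D 1 0 = 0 ∧ D 1 1 = 0 ∧ D 1 2 = 0 ∧ D 2 0 = 0 ∧ D 2 1 = 0 ∧ D 2 2 = 0 := by
    rw [hD]
    refine ⟨?_, ?_, ?_, ?_, ?_, ?_, ?_⟩ <;>
      simp [Matrix.mul_apply, Fin.sum_univ_three, h10, h20, h21, h12] <;> ring
  obtain ⟨d00, d10, d11, d12, d20, d21, d22⟩ := d
  rw [← hD]
  ext i j
  fin_cases i <;> fin_cases j <;>
    simp [Matrix.mul_apply, Fin.sum_univ_three, d00, d10, d11, d12, d20, d21, d22, e1, e2]

include hno hx in
/-- The same for an element fixing the line with equal first two diagonal entries. -/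
theorem commute_line {y : GL (Fin 3) F} (hy : y ∈ M) (h10 : y.1 1 0 = 0) (h20 : y.1 2 0 = 0)
    (h21 : y.1 2 1 = 0) (h01 : y.1 0 0 = y.1 1 1) : y * TG 1 = TG 1 * y := by
  refine commute_of hno hy hx ?_
  obtain ⟨E, hE⟩ : ∃ E : Matrix (Fin 3) (Fin 3) F, E = (TG 1 * y)⁻¹.1 := ⟨_, rfl⟩
  have h : (TM 1 * y.1) * E = 1 := by
    rw [hE, show TM (1 : F) * y.1 = (TG 1 * y).1 from rfl, Units.mul_inv]
  rw [← hE]
  have e0 := congrFun (congrFun h 2) 2
  have e1 := congrFun (congrFun h 2) 0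
  have e2 := congrFun (congrFun h 2) 1
  simp [Matrix.mul_apply, Fin.sum_univ_three, h20, h21] at e0 e1 e2
  have hk : y.1 2 2 ≠ 0 := left_ne_zero_of_mul_eq_one e0
  replace e1 := e1.resolve_left hk
  replace e2 := e2.resolve_left hk
  obtain ⟨D, hD⟩ : ∃ D : Matrix (Fin 3) (Fin 3) F, D = (y * TG 1).1 - (TG 1 * y).1 := ⟨_, rfl⟩
  have d : D 0 0 = 0 ∧ D 0 1 = 0 ∧ D 1 0 = 0 ∧ D 1 1 = 0 ∧ D 2 0 = 0 ∧ D 2 1 = 0 ∧ D 2 2 = 0 := by
    rw [hD]
    refine ⟨?_, ?_, ?_, ?_, ?_, ?_, ?_⟩ <;>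
      simp [Matrix.mul_apply, Fin.sum_univ_three, h10, h20, h21, h01] <;> ring
  obtain ⟨d00, d01, d10, d11, d20, d21, d22⟩ := d
  rw [← hD]
  ext i j
  fin_cases i <;> fin_cases j <;>
    simp [Matrix.mul_apply, Fin.sum_univ_three, d00, d01, d10, d11, d20, d21, d22, e1, e2]

include hF h2 hno hx in
theorem point_fixes_line {g : GL (Fin 3) F} (hg : g ∈ M) (h10 : g.1 1 0 = 0) (h20 : g.1 2 0 = 0) :
    g.1 2 1 = 0 := by
  by_contra hc
  set g2 := TG (-(g.1 1 1 / g.1 2 1)) * g with hg2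
  have hg2M : g2 ∈ M := mul_mem (TG_mem hF hx _) hg
  have a10 : g2.1 1 0 = 0 := by simp [hg2, Matrix.mul_apply, Fin.sum_univ_three, h10, h20]
  have a20 : g2.1 2 0 = 0 := by simp [hg2, Matrix.mul_apply, Fin.sum_univ_three, h10, h20]
  have a11 : g2.1 1 1 = 0 := by
    simp [hg2, Matrix.mul_apply, Fin.sum_univ_three]; field_simp; ring
  have a21 : g2.1 2 1 = g.1 2 1 := by simp [hg2, Matrix.mul_apply, Fin.sum_univ_three]
  have hdet : g2.1.det ≠ 0 := by
    rw [← GeneralLinearGroup.val_det_apply]; exact Units.ne_zero _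
  rw [Matrix.det_fin_three, a10, a20, a11, a21] at hdet
  have hb : g2.1 1 2 ≠ 0 := fun h => hdet (by rw [h]; ring)
  have ha : g2.1 0 0 ≠ 0 := fun h => hdet (by rw [h]; ring)
  set t := -(g2.1 1 2 / g.1 2 1) with ht
  set y1 := g2 * TG t * g2⁻¹ with hy1
  have hy1M : y1 ∈ M := mul_mem (mul_mem hg2M (TG_mem hF hx _)) (inv_mem hg2M)
  have he : y1.1 * g2.1 = g2.1 * TM t := by
    rw [← Units.val_mul, hy1, inv_mul_cancel_right, Units.val_mul]; rfl
  have E : ∀ i j, (y1.1 * g2.1) i j = (g2.1 * TM t) i j := fun i j => by rw [he]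
  have E00 := E 0 0
  have E10 := E 1 0
  have E20 := E 2 0
  have E11 := E 1 1
  have E12 := E 1 2
  have E21 := E 2 1
  have E22 := E 2 2
  simp [Matrix.mul_apply, Fin.sum_univ_three, a10, a20, a11, a21] at E00 E10 E20 E11 E12 E21 E22
  have b00 : y1.1 0 0 = 1 := mul_right_cancel₀ ha (by linear_combination E00)
  have b10 : y1.1 1 0 = 0 := E10.resolve_right ha
  have b20 : y1.1 2 0 = 0 := E20.resolve_right ha
  rw [b10] at E11 E12
  rw [b20] at E21 E22
  simp at E11 E12 E21 E22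
  have b12 : y1.1 1 2 = 0 := E11.resolve_right hc
  have b22 : y1.1 2 2 = 1 := mul_right_cancel₀ hc (by linear_combination E21)
  rw [b12] at E12
  rw [b22] at E22
  have b11 : y1.1 1 1 = 1 := mul_right_cancel₀ hb (by linear_combination E12)
  have b21 : y1.1 2 1 = -1 := mul_right_cancel₀ hb (by
    rw [ht] at E22; field_simp at E22; linear_combination E22)
  set w := TG 1 * y1 * TG 1 with hw
  have hwM : w ∈ M := mul_mem (mul_mem hx hy1M) hx
  have w00 : w.1 0 0 = 1 := by
    simp [hw, Matrix.mul_apply, Fin.sum_univ_three, b00, b10, b20]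
  have w10 : w.1 1 0 = 0 := by simp [hw, Matrix.mul_apply, Fin.sum_univ_three, b10, b20]
  have w20 : w.1 2 0 = 0 := by simp [hw, Matrix.mul_apply, Fin.sum_univ_three, b20]
  have w11 : w.1 1 1 = 0 := by
    simp [hw, Matrix.mul_apply, Fin.sum_univ_three, b10, b20, b11, b21]
  have w12 : w.1 1 2 = 1 := by
    simp [hw, Matrix.mul_apply, Fin.sum_univ_three, b10, b20, b11, b21, b12, b22]
  have w21 : w.1 2 1 = -1 := by
    simp [hw, Matrix.mul_apply, Fin.sum_univ_three, b20, b21]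
  have w22 : w.1 2 2 = 0 := by
    simp [hw, Matrix.mul_apply, Fin.sum_univ_three, b20, b21, b22]
  have hc2 := commute_point hno hx (mul_mem hwM hwM)
    (by simp [Matrix.mul_apply, Fin.sum_univ_three, w10, w20])
    (by simp [Matrix.mul_apply, Fin.sum_univ_three, w10, w20])
    (by simp [Matrix.mul_apply, Fin.sum_univ_three, w20, w11, w21, w22])
    (by simp [Matrix.mul_apply, Fin.sum_univ_three, w10, w20, w11, w12, w21, w22])
  have h := congrArg (fun k : GL (Fin 3) F => k.1 0 1) hc2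
  simp [Matrix.mul_apply, Fin.sum_univ_three, w00, w10, w20, w11, w12, w21, w22] at h
  refine mul_ne_zero h2 h2 ?_
  linear_combination h

include hF h2 hno hx in
theorem line_fixes_point {g : GL (Fin 3) F} (hg : g ∈ M) (h20 : g.1 2 0 = 0) (h21 : g.1 2 1 = 0) :
    g.1 1 0 = 0 := by
  by_contra hc
  set g2 := TG (-(g.1 0 0 / (2 * g.1 1 0))) * g with hg2
  have hg2M : g2 ∈ M := mul_mem (TG_mem hF hx _) hg
  have a20 : g2.1 2 0 = 0 := by simp [hg2, Matrix.mul_apply, Fin.sum_univ_three, h20]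
  have a21 : g2.1 2 1 = 0 := by simp [hg2, Matrix.mul_apply, Fin.sum_univ_three, h21]
  have a00 : g2.1 0 0 = 0 := by
    simp [hg2, Matrix.mul_apply, Fin.sum_univ_three, h20]; field_simp; ring
  have a10 : g2.1 1 0 = g.1 1 0 := by
    simp [hg2, Matrix.mul_apply, Fin.sum_univ_three, h20]
  have hdet : g2.1.det ≠ 0 := by
    rw [← GeneralLinearGroup.val_det_apply]; exact Units.ne_zero _
  rw [Matrix.det_fin_three, a20, a21, a00, a10] at hdet
  have hb : g2.1 0 1 ≠ 0 := fun h => hdet (by rw [h]; ring)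
  have hd : g2.1 2 2 ≠ 0 := fun h => hdet (by rw [h]; ring)
  set t := -(g2.1 0 1 / (4 * g.1 1 0)) with ht
  set y1 := g2 * TG t * g2⁻¹ with hy1
  have hy1M : y1 ∈ M := mul_mem (mul_mem hg2M (TG_mem hF hx _)) (inv_mem hg2M)
  have he : y1.1 * g2.1 = g2.1 * TM t := by
    rw [← Units.val_mul, hy1, inv_mul_cancel_right, Units.val_mul]; rfl
  have E : ∀ i j, (y1.1 * g2.1) i j = (g2.1 * TM t) i j := fun i j => by rw [he]
  have E00 := E 0 0
  have E01 := E 0 1
  have E10 := E 1 0
  have E11 := E 1 1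
  have E20 := E 2 0
  have E21 := E 2 1
  have E22 := E 2 2
  simp [Matrix.mul_apply, Fin.sum_univ_three, a00, a20, a21, a10] at E00 E01 E10 E11 E20 E21 E22
  have b01 : y1.1 0 1 = 0 := E00.resolve_right hc
  have b21 : y1.1 2 1 = 0 := E20.resolve_right hc
  have b11 : y1.1 1 1 = 1 := mul_right_cancel₀ hc (by linear_combination E10)
  rw [b01] at E01
  rw [b21] at E21 E22
  rw [b11] at E11
  simp at E01 E21 E22
  have b20 : y1.1 2 0 = 0 := E21.resolve_right hb
  rw [b20] at E22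
  have b00 : y1.1 0 0 = 1 := mul_right_cancel₀ hb (by linear_combination E01)
  have b22 : y1.1 2 2 = 1 := mul_right_cancel₀ hd (by linear_combination E22)
  have h4 : (4 : F) ≠ 0 := fun h => mul_ne_zero h2 h2 (by linear_combination h)
  have b10 : y1.1 1 0 = -(1 / 2) := by
    rw [ht] at E11
    field_simp at E11
    have h' : (2 * g2.1 0 1) * (2 * y1.1 1 0 + 1) = 0 := by linear_combination E11
    have h'' := (mul_eq_zero.mp h').resolve_left (mul_ne_zero h2 hb)
    field_simp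
    linear_combination h''
  set w := TG 1 * y1 * TG 1 with hw
  have hwM : w ∈ M := mul_mem (mul_mem hx hy1M) hx
  have w00 : w.1 0 0 = 0 := by
    simp [hw, Matrix.mul_apply, Fin.sum_univ_three, b00, b10, b20]
    field_simp; ring
  have w01 : w.1 0 1 = 2 := by
    simp [hw, Matrix.mul_apply, Fin.sum_univ_three, b00, b01, b10, b11, b20, b21]
    field_simp
    simp
  have w10 : w.1 1 0 = -(1 / 2) := by
    simp [hw, Matrix.mul_apply, Fin.sum_univ_three, b10, b20]
  have w11 : w.1 1 1 = 0 := by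
    simp [hw, Matrix.mul_apply, Fin.sum_univ_three, b10, b11, b20, b21]
    field_simp; ring
  have w20 : w.1 2 0 = 0 := by simp [hw, Matrix.mul_apply, Fin.sum_univ_three, b20]
  have w21 : w.1 2 1 = 0 := by simp [hw, Matrix.mul_apply, Fin.sum_univ_three, b20, b21]
  have w22 : w.1 2 2 = 1 := by
    simp [hw, Matrix.mul_apply, Fin.sum_univ_three, b20, b21, b22]
  have hc2 := commute_line hno hx (mul_mem hwM hwM)
    (by simp [Matrix.mul_apply, Fin.sum_univ_three, w00, w10, w11, w20])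
    (by simp [Matrix.mul_apply, Fin.sum_univ_three, w20, w21])
    (by simp [Matrix.mul_apply, Fin.sum_univ_three, w20, w21])
    (by simp [Matrix.mul_apply, Fin.sum_univ_three, w00, w01, w10, w11, w20, w21, mul_comm])
  have h := congrArg (fun k : GL (Fin 3) F => k.1 1 2) hc2
  simp [Matrix.mul_apply, Fin.sum_univ_three, w00, w01, w10, w11, w20, w21, w22] at h
  field_simp at h
  refine mul_ne_zero h2 h2 ?_
  linear_combination -h

include hF h2 hno hx in
/-- A unitriangular element belongs to the one-parameter group. -/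
theorem eq_TG {y : GL (Fin 3) F} (hy : y ∈ M) (h10 : y.1 1 0 = 0) (h20 : y.1 2 0 = 0)
    (h21 : y.1 2 1 = 0) (h00 : y.1 0 0 = 1) (h11 : y.1 1 1 = 1) (h22 : y.1 2 2 = 1) :
    y = TG (y.1 1 2) := by
  set y' := y * TG (-(y.1 1 2)) with hy'
  have hy'M : y' ∈ M := mul_mem hy (TG_mem hF hx _)
  have c00 : y'.1 0 0 = 1 := by
    simp [hy', Matrix.mul_apply, Fin.sum_univ_three, h00]
  have c10 : y'.1 1 0 = 0 := by simp [hy', Matrix.mul_apply, Fin.sum_univ_three, h10]
  have c20 : y'.1 2 0 = 0 := by simp [hy', Matrix.mul_apply, Fin.sum_univ_three, h20]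
  have c11 : y'.1 1 1 = 1 := by simp [hy', Matrix.mul_apply, Fin.sum_univ_three, h10, h11]
  have c12 : y'.1 1 2 = 0 := by simp [hy', Matrix.mul_apply, Fin.sum_univ_three, h10, h11]
  have c21 : y'.1 2 1 = 0 := by simp [hy', Matrix.mul_apply, Fin.sum_univ_three, h20, h21]
  have c22 : y'.1 2 2 = 1 := by
    simp [hy', Matrix.mul_apply, Fin.sum_univ_three, h20, h21, h22]
  have hc := commute_point hno hx hy'M c10 c20 c21 (c11.trans c22.symm)
  have h := congrArg (fun k : GL (Fin 3) F => k.1 0 2) hc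
  simp [Matrix.mul_apply, Fin.sum_univ_three, c00, c10, c20, c11, c12, c21, c22] at h
  have c01 : y'.1 0 1 = 0 := by linear_combination h
  have h1 : y' = 1 := by
    by_contra hne
    refine hno y' hy'M ⟨hne, ?_⟩
    ext i j
    fin_cases i <;> fin_cases j <;>
      simp [Matrix.mul_apply, Fin.sum_univ_three, c00, c01, c10, c20, c11, c12, c21, c22]
  have h2' : TG (-(y.1 1 2)) * TG (y.1 1 2) = (1 : GL (Fin 3) F) := by
    rw [TG_mul, neg_add_cancel]; exact Units.ext TM_zero
  calc y = y' * TG (y.1 1 2) := by rw [hy', mul_assoc, h2', mul_one]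
    _ = TG (y.1 1 2) := by rw [h1, one_mul]

/-! ### The orbit of the fixed point -/

/-- The point spanned by a vector. -/
abbrev pt (v : Fin 3 → F) : Submodule F (Fin 3 → F) := Submodule.span F {v}

theorem pt_map (g : GL (Fin 3) F) (v : Fin 3 → F) :
    (pt v).map (g : Matrix (Fin 3) (Fin 3) F).mulVecLin = pt ((g : Matrix (Fin 3) (Fin 3) F) *ᵥ v) := by
  rw [pt, Submodule.map_span, Set.image_singleton, Matrix.mulVecLin_apply]

theorem pt_smul {c : F} (hc : c ≠ 0) (v : Fin 3 → F) : pt (c • v) = pt v :=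
  Submodule.span_singleton_smul_eq (IsUnit.mk0 c hc) v

theorem map_map_mul (g h : GL (Fin 3) F) (W : Submodule F (Fin 3 → F)) :
    (W.map (h : Matrix (Fin 3) (Fin 3) F).mulVecLin).map (g : Matrix (Fin 3) (Fin 3) F).mulVecLin =
      W.map ((g * h : GL (Fin 3) F) : Matrix (Fin 3) (Fin 3) F).mulVecLin := by
  rw [Units.val_mul, Matrix.mulVecLin_mul, Submodule.map_comp]

theorem map_one' (W : Submodule F (Fin 3 → F)) :
    W.map ((1 : GL (Fin 3) F) : Matrix (Fin 3) (Fin 3) F).mulVecLin = W := by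
  rw [Units.val_one, Matrix.mulVecLin_one, Submodule.map_id]

/-- The orbit of the fixed point. -/
def orb (M : Subgroup (GL (Fin 3) F)) : Set (Submodule F (Fin 3 → F)) :=
  {Q | ∃ g ∈ M, Q = pt ((g : Matrix (Fin 3) (Fin 3) F) *ᵥ ![1, 0, 0])}

theorem mulVec_e0 (A : Matrix (Fin 3) (Fin 3) F) : A *ᵥ ![1, 0, 0] = ![A 0 0, A 1 0, A 2 0] := by
  ext i
  fin_cases i <;> simp [Matrix.mulVec, dotProduct, Fin.sum_univ_three]

theorem TM_mulVec (t : F) (v : Fin 3 → F) :
    TM t *ᵥ v = ![v 0 + 2 * t * v 1 + t ^ 2 * v 2, v 1 + t * v 2, v 2] := by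
  ext i
  fin_cases i <;> simp [Matrix.mulVec, dotProduct, Fin.sum_univ_three]

theorem orb_map {g : GL (Fin 3) F} (hg : g ∈ M) {Q : Submodule F (Fin 3 → F)} (hQ : Q ∈ orb M) :
    Q.map (g : Matrix (Fin 3) (Fin 3) F).mulVecLin ∈ orb M := by
  obtain ⟨h, hh, rfl⟩ := hQ
  exact ⟨g * h, mul_mem hg hh, by rw [pt_map, Units.val_mul, mulVec_mulVec]⟩

theorem orb_inv {g : GL (Fin 3) F} (hg : g ∈ M) {v : Fin 3 → F}
    (h : pt ((g : Matrix (Fin 3) (Fin 3) F) *ᵥ v) ∈ orb M) : pt v ∈ orb M := by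
  have h' := orb_map (inv_mem hg) h
  rwa [pt_map, inv_mulVec_mulVec] at h'

variable {ω : F} {a b : GL (Fin 3) F} (ha : a ∈ M) (hb : b ∈ M) (ha3 : a ^ 3 = 1) (hb3 : b ^ 3 = 1)
  (hω : ω ≠ 0) (hab : (a * b).1 = ω • (b * a).1)
  (hnc : ∀ v : Fin 3 → F, (∃ r : F, (a : Matrix (Fin 3) (Fin 3) F) *ᵥ v = r • v) →
    (∃ r : F, (b : Matrix (Fin 3) (Fin 3) F) *ᵥ v = r • v) → v = 0)

include ha hb ha3 hb3 hω hab hnc in
/-- Two commuting permutations of order three without a common fixed point. -/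
theorem three_dvd_orb : 3 ∣ (orb M).ncard := by
  classical
  have : Fact (Nat.Prime 3) := ⟨Nat.prime_three⟩
  have hmap3 : ∀ g : GL (Fin 3) F, g ^ 3 = 1 → ∀ W : Submodule F (Fin 3 → F),
      ((W.map (g : Matrix (Fin 3) (Fin 3) F).mulVecLin).map
        (g : Matrix (Fin 3) (Fin 3) F).mulVecLin).map (g : Matrix (Fin 3) (Fin 3) F).mulVecLin = W := by
    intro g hg W
    rw [map_map_mul, map_map_mul, mul_assoc, ← pow_three, hg, map_one']
  let fb : Function.End ↥(orb M) := fun Q => ⟨_, orb_map hb Q.2⟩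
  have hfb : fb ^ 3 ^ 1 = 1 := by
    rw [pow_one]
    funext Q
    exact Subtype.ext (hmap3 b hb3 Q.1)
  have : Fintype ↥(orb M) := Fintype.ofFinite _
  have h1 := Equiv.Perm.card_fixedPoints_modEq (p := 3) (n := 1) hfb
  -- `a` acts on the fixed points of `b`
  have hmem : ∀ Q : ↥(Function.fixedPoints fb),
      (⟨_, orb_map ha Q.1.2⟩ : ↥(orb M)) ∈ Function.fixedPoints fb := by
    intro Q
    obtain ⟨g, -, hQ⟩ := Q.1.2
    have hfix : Q.1.1.map (b : Matrix (Fin 3) (Fin 3) F).mulVecLin = Q.1.1 :=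
      congrArg Subtype.val (show fb Q.1 = Q.1 from Q.2)
    refine Subtype.ext ?_
    show (Q.1.1.map (a : Matrix (Fin 3) (Fin 3) F).mulVecLin).map
      (b : Matrix (Fin 3) (Fin 3) F).mulVecLin = Q.1.1.map (a : Matrix (Fin 3) (Fin 3) F).mulVecLin
    conv_rhs => rw [← hfix, map_map_mul]
    rw [map_map_mul, hQ, pt_map, pt_map, hab, smul_mulVec, pt_smul hω]
  let fa : Function.End ↥(Function.fixedPoints fb) := fun Q => ⟨_, hmem Q⟩
  have hfa : fa ^ 3 ^ 1 = 1 := by
    rw [pow_one]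
    funext Q
    exact Subtype.ext (Subtype.ext (hmap3 a ha3 Q.1.1))
  have h2 := Equiv.Perm.card_fixedPoints_modEq (p := 3) (n := 1) hfa
  have h0 : IsEmpty ↥(Function.fixedPoints fa) := by
    refine ⟨fun Q => ?_⟩
    obtain ⟨g, -, hQ⟩ := Q.1.1.2
    have hfa' : Q.1.1.1.map (a : Matrix (Fin 3) (Fin 3) F).mulVecLin = Q.1.1.1 :=
      congrArg (fun R => R.1.1) (show fa Q.1 = Q.1 from Q.2)
    have hfb' : Q.1.1.1.map (b : Matrix (Fin 3) (Fin 3) F).mulVecLin = Q.1.1.1 :=
      congrArg Subtype.val (show fb Q.1.1 = Q.1.1 from Q.1.2)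
    rw [hQ, pt_map] at hfa' hfb'
    set v := (g : Matrix (Fin 3) (Fin 3) F) *ᵥ ![1, 0, 0]
    have hv : v ≠ 0 := mulVec_ne_zero g fun h => one_ne_zero (congrFun h 0)
    refine hv (hnc v ?_ ?_)
    · obtain ⟨r, hr⟩ := Submodule.mem_span_singleton.mp
        (hfa' ▸ Submodule.mem_span_singleton_self _ : (a : Matrix (Fin 3) (Fin 3) F) *ᵥ v ∈ pt v)
      exact ⟨r, hr.symm⟩
    · obtain ⟨r, hr⟩ := Submodule.mem_span_singleton.mp
        (hfb' ▸ Submodule.mem_span_singleton_self _ : (b : Matrix (Fin 3) (Fin 3) F) *ᵥ v ∈ pt v)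
      exact ⟨r, hr.symm⟩
  rw [← Nat.card_coe_set_eq, Nat.card_eq_fintype_card, ← Nat.modEq_zero_iff_dvd]
  refine h1.trans ?_
  convert h2 using 1
  rw [Fintype.card_eq_zero]

include hF h2 hno hx in
/-- When the orbit meets the fixed line again it is the whole plane. -/
theorem orb_all {g : GL (Fin 3) F} (hg : g ∈ M) (h20 : g.1 2 0 = 0) (h10 : g.1 1 0 ≠ 0)
    {v : Fin 3 → F} (hv : v ≠ 0) : pt v ∈ orb M := by
  have hline : ∀ w : Fin 3 → F, w ≠ 0 → w 2 = 0 → pt w ∈ orb M := by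
    intro w hw hw2
    by_cases hw1 : w 1 = 0
    · refine ⟨1, one_mem M, ?_⟩
      rw [Units.val_one, one_mulVec]
      have e : w = w 0 • ![1, 0, 0] := by
        ext i
        fin_cases i <;> simp [hw1, hw2]
      rw [e, pt_smul fun h => hw (by rw [e, h, zero_smul])]
    · set t := (w 0 / w 1 - g.1 0 0 / g.1 1 0) / 2 with ht
      refine ⟨TG t * g, mul_mem (TG_mem hF hx t) hg, ?_⟩
      rw [Units.val_mul, ← mulVec_mulVec, mulVec_e0, TG_coe, TM_mulVec]
      conv_rhs => rw [← pt_smul (div_ne_zero hw1 h10)]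
      congr 1
      ext i
      fin_cases i <;> simp [h20, hw2, ht] <;> field_simp <;> ring
  by_cases hv2 : v 2 = 0
  · exact hline v hv hv2
  have h21 : g.1 2 1 ≠ 0 := fun h => h10 (line_fixes_point hF h2 hno hx hg h20 h)
  set t := -(v 1 + g.1 2 2 / g.1 2 1 * v 2) / v 2 with ht
  have hgM : g * TG t ∈ M := mul_mem hg (TG_mem hF hx t)
  refine orb_inv hgM (hline _ (mulVec_ne_zero _ hv) ?_)
  rw [Units.val_mul, ← mulVec_mulVec, TG_coe, TM_mulVec]
  simp [Matrix.mulVec, dotProduct, Fin.sum_univ_three, h20, ht]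
  field_simp
  ring

include hF h2 hno hx in
/-- The involution cannot fix the fixed point of a regular element. -/
theorem no_whole_plane (hall : ∀ v : Fin 3 → F, v ≠ 0 → pt v ∈ orb M) {z : GL (Fin 3) F}
    (hz : z ∈ M) {v₀ : Fin 3 → F} (hv₀ : v₀ ≠ 0)
    (hzv : (z : Matrix (Fin 3) (Fin 3) F) *ᵥ v₀ = v₀)
    (hzy : ∀ y : Fin 3 → F, ∃ r : F, (z : Matrix (Fin 3) (Fin 3) F) *ᵥ y + y = r • v₀) : False := by
  obtain ⟨g, hg, hQ⟩ := hall v₀ hv₀
  obtain ⟨r, hr⟩ := Submodule.mem_span_singleton.mp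
    (hQ ▸ Submodule.mem_span_singleton_self v₀ :
      v₀ ∈ pt ((g : Matrix (Fin 3) (Fin 3) F) *ᵥ ![1, 0, 0]))
  have hr0 : r ≠ 0 := fun h => hv₀ (by rw [← hr, h, zero_smul])
  set k := g⁻¹ * z * g with hk
  have hkM : k ∈ M := mul_mem (mul_mem (inv_mem hg) hz) hg
  have hke : (k : Matrix (Fin 3) (Fin 3) F) *ᵥ ![1, 0, 0] = ![1, 0, 0] := by
    rw [← hr, mulVec_smul] at hzv
    have h := smul_right_injective _ hr0 hzv
    rw [hk, Units.val_mul, Units.val_mul, ← mulVec_mulVec, ← mulVec_mulVec, h, inv_mulVec_mulVec]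
  have hky : ∀ y : Fin 3 → F, ∃ s : F,
      (k : Matrix (Fin 3) (Fin 3) F) *ᵥ y + y = s • ![1, 0, 0] := by
    intro y
    obtain ⟨s, hs⟩ := hzy ((g : Matrix (Fin 3) (Fin 3) F) *ᵥ y)
    refine ⟨s * r, ?_⟩
    have h := congrArg (((g⁻¹ : GL (Fin 3) F) : Matrix (Fin 3) (Fin 3) F) *ᵥ ·) hs
    simp only [← hr, mulVec_add, inv_mulVec_mulVec, mulVec_smul, smul_smul] at h
    rwa [hk, Units.val_mul, Units.val_mul, ← mulVec_mulVec, ← mulVec_mulVec]
  rw [mulVec_e0] at hke
  have k00 : k.1 0 0 = 1 := congrFun hke 0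
  have k10 : k.1 1 0 = 0 := congrFun hke 1
  have k20 : k.1 2 0 = 0 := congrFun hke 2
  obtain ⟨s1, hs1⟩ := hky ![0, 1, 0]
  obtain ⟨s2, hs2⟩ := hky ![0, 0, 1]
  have k11 : k.1 1 1 = -1 := by
    have h := congrFun hs1 1
    simp [Matrix.mulVec, dotProduct, Fin.sum_univ_three] at h
    linear_combination h
  have k21 : k.1 2 1 = 0 := by
    have h := congrFun hs1 2
    simp [Matrix.mulVec, dotProduct, Fin.sum_univ_three] at h
    exact h
  have k12 : k.1 1 2 = 0 := by
    have h := congrFun hs2 1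
    simp [Matrix.mulVec, dotProduct, Fin.sum_univ_three] at h
    exact h
  have k22 : k.1 2 2 = -1 := by
    have h := congrFun hs2 2
    simp [Matrix.mulVec, dotProduct, Fin.sum_univ_three] at h
    linear_combination h
  have hy := eq_TG hF h2 hno hx (y := k * TG 1 * k) (mul_mem (mul_mem hkM hx) hkM)
    (by simp [Matrix.mul_apply, Fin.sum_univ_three, k10, k20, k11, k12, k21, k22])
    (by simp [Matrix.mul_apply, Fin.sum_univ_three, k10, k20, k11, k12, k21, k22])
    (by simp [Matrix.mul_apply, Fin.sum_univ_three, k10, k20, k11, k12, k21, k22])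
    (by simp [Matrix.mul_apply, Fin.sum_univ_three, k00, k10, k20, k11, k12, k21, k22])
    (by simp [Matrix.mul_apply, Fin.sum_univ_three, k10, k20, k11, k12, k21, k22])
    (by simp [Matrix.mul_apply, Fin.sum_univ_three, k10, k20, k11, k12, k21, k22])
  have h01 := congrArg (fun m : GL (Fin 3) F => m.1 0 1) hy
  simp [Matrix.mul_apply, Fin.sum_univ_three, k00, k10, k20, k11, k12, k21, k22] at h01
  refine mul_ne_zero h2 h2 ?_
  linear_combination -h01

include hF h2 hno hx ha hb ha3 hb3 hω hab hnc in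
/-- The orbit cannot avoid the fixed line. -/
theorem no_parabolas (hp : Fintype.card F % 3 = 1)
    (hA : ∀ g ∈ M, g.1 2 0 = 0 → g.1 1 0 = 0) : False := by
  classical
  set p := Fintype.card F with hpdef
  have hFp : Fact p.Prime := ⟨hF⟩
  have : CharP F p := charP_of_card_eq_prime rfl
  have hp2 : p ≠ 2 := by omega
  set e0 : Fin 3 → F := ![1, 0, 0]
  set C : Finset F := Finset.univ.filter fun c => pt ![c, 0, 1] ∈ orb M with hC
  set Φ : F × F → Submodule F (Fin 3 → F) := fun x => pt ![x.1 ^ 2 + x.2, x.1, 1] with hΦ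
  have hΦinj : Function.Injective Φ := by
    rintro ⟨x, y⟩ ⟨x', y'⟩ h
    obtain ⟨r, hr⟩ := Submodule.mem_span_singleton.mp
      ((show pt ![x ^ 2 + y, x, 1] = pt ![x' ^ 2 + y', x', 1] from h) ▸
        Submodule.mem_span_singleton_self _ : ![x ^ 2 + y, x, 1] ∈ pt ![x' ^ 2 + y', x', 1])
    have e2 := congrFun hr 2
    have e1 := congrFun hr 1
    have e0 := congrFun hr 0
    simp at e2 e1 e0
    rw [e2, one_mul] at e1 e0
    subst e1
    simpa using e0.symm
  have hTG : ∀ (t : F) (c : F), (TG t : Matrix (Fin 3) (Fin 3) F) *ᵥ ![c, 0, 1] =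
      ![t ^ 2 + c, t, 1] := fun t c => by
    rw [TG_coe, TM_mulVec]
    ext i
    fin_cases i <;> simp [add_comm]
  have horb : orb M = insert (pt e0) (Φ '' ↑((Finset.univ : Finset F) ×ˢ C)) := by
    ext Q
    constructor
    · rintro ⟨g, hg, rfl⟩
      rw [mulVec_e0]
      by_cases h20 : g.1 2 0 = 0
      · refine Set.mem_insert_iff.mpr (Or.inl ?_)
        have h10 := hA g hg h20
        have h00 : g.1 0 0 ≠ 0 := fun h => by
          have := mulVec_ne_zero g (v := e0) fun h => one_ne_zero (congrFun h 0)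
          exact this (by rw [mulVec_e0, h, h10, h20]; ext i; fin_cases i <;> rfl)
        have e : ![g.1 0 0, g.1 1 0, g.1 2 0] = g.1 0 0 • e0 := by
          ext i
          fin_cases i <;> simp [e0, h10, h20]
        rw [e, pt_smul h00]
      · set x := g.1 1 0 / g.1 2 0 with hxdef
        set c := g.1 0 0 / g.1 2 0 - x ^ 2 with hcdef
        have e : ![g.1 0 0, g.1 1 0, g.1 2 0] = g.1 2 0 • ![x ^ 2 + c, x, 1] := by
          ext i
          fin_cases i <;> simp [hxdef, hcdef] <;> field_simp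
        refine Set.mem_insert_of_mem _ ⟨(x, c), ?_, by rw [e, pt_smul h20]⟩
        simp only [Finset.coe_product, Set.mem_prod, Finset.coe_univ, Set.mem_univ, true_and,
          Finset.mem_coe, hC, Finset.mem_filter, Finset.mem_univ]
        refine orb_inv (TG_mem hF hx x) ?_
        rw [hTG, ← pt_smul h20, ← e, ← mulVec_e0]
        exact ⟨g, hg, rfl⟩
    · rintro (rfl | ⟨⟨x, c⟩, hxc, rfl⟩)
      · exact ⟨1, one_mem M, by rw [Units.val_one, one_mulVec]⟩
      · simp only [Finset.coe_product, Set.mem_prod, Finset.coe_univ, Set.mem_univ, true_and,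
          Finset.mem_coe, hC, Finset.mem_filter, Finset.mem_univ] at hxc
        have h := orb_map (TG_mem hF hx x) hxc
        rwa [pt_map, hTG] at h
  have hnot : pt e0 ∉ Φ '' ↑((Finset.univ : Finset F) ×ˢ C) := by
    rintro ⟨⟨x, c⟩, -, h⟩
    obtain ⟨r, hr⟩ := Submodule.mem_span_singleton.mp
      (h ▸ Submodule.mem_span_singleton_self _ : ![x ^ 2 + c, x, 1] ∈ pt e0)
    have e2 := congrFun hr 2
    simp [e0] at e2
  set k := C.card with hk
  have hn : (orb M).ncard = p * k + 1 := by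
    rw [horb, Set.ncard_insert_of_notMem hnot, Set.ncard_image_of_injective _ hΦinj,
      Set.ncard_coe_finset, Finset.card_product, Finset.card_univ]
  have h3 := three_dvd_orb ha hb ha3 hb3 hω hab hnc
  rw [hn] at h3
  have hk0 : k ≠ 0 := by
    rintro h
    rw [h] at h3
    omega
  have hk1 : k ≠ 1 := by
    rintro h
    rw [h] at h3
    omega
  have hkp : k ≤ p := by rw [hk, hpdef, ← Finset.card_univ]; exact Finset.card_le_univ _
  -- lines
  set cnt : (Fin 3 → F) → ℕ := fun φ => {Q | Q ∈ orb M ∧ ∀ v ∈ Q, φ ⬝ᵥ v = 0}.ncard with hcnt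
  have hpt : ∀ φ v : Fin 3 → F, (∀ w ∈ pt v, φ ⬝ᵥ w = 0) ↔ φ ⬝ᵥ v = 0 := fun φ v => by
    refine ⟨fun h => h v (Submodule.mem_span_singleton_self v), fun h w hw => ?_⟩
    obtain ⟨r, rfl⟩ := Submodule.mem_span_singleton.mp hw
    rw [dotProduct_smul, h, smul_zero]
  have hinv : ∀ g ∈ M, ∀ φ, cnt (φ ᵥ* (g : Matrix (Fin 3) (Fin 3) F)) = cnt φ := by
    intro g hg φ
    have hinj : Function.Injective
        fun Q : Submodule F (Fin 3 → F) => Q.map (g : Matrix (Fin 3) (Fin 3) F).mulVecLin :=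
      Submodule.map_injective_of_injective (f := (g : Matrix (Fin 3) (Fin 3) F).mulVecLin)
        (mulVec_injective g)
    simp only [hcnt]
    rw [← Set.ncard_image_of_injective _ hinj]
    congr 1
    ext Q
    constructor
    · rintro ⟨R, ⟨hR, hR'⟩, rfl⟩
      obtain ⟨h, hh, rfl⟩ := hR
      refine ⟨orb_map hg ⟨h, hh, rfl⟩, ?_⟩
      beta_reduce
      rw [pt_map, hpt]
      rw [hpt, ← dotProduct_mulVec] at hR'
      exact hR'
    · rintro ⟨hQ, hQ'⟩
      obtain ⟨h, hh, rfl⟩ := hQ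
      refine ⟨pt ((g⁻¹ * h : GL (Fin 3) F).1 *ᵥ ![1, 0, 0]),
        ⟨⟨_, mul_mem (inv_mem hg) hh, rfl⟩, ?_⟩, ?_⟩
      · rw [hpt, ← dotProduct_mulVec, mulVec_mulVec, ← Units.val_mul, mul_inv_cancel_left]
        exact (hpt _ _).mp hQ'
      · simp only [pt_map]
        rw [mulVec_mulVec, ← Units.val_mul, mul_inv_cancel_left]
  have hline : ∀ φ : Fin 3 → F, φ ≠ 0 → φ ⬝ᵥ e0 = 0 → cnt φ = 1 ∨ cnt φ = k + 1 := by
    intro φ hφ h0
    have h00 : φ 0 = 0 := by simpa [e0, dotProduct, Fin.sum_univ_three] using h0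
    simp only [hcnt]
    rw [horb]
    by_cases h1 : φ 1 = 0
    · left
      rw [Set.ncard_eq_one]
      refine ⟨pt e0, Set.ext fun Q => ⟨?_, ?_⟩⟩
      · rintro ⟨h | ⟨⟨x, c⟩, -, rfl⟩, hQ⟩
        · exact h
        · have h2 := (hpt _ _).mp hQ
          simp [dotProduct, Fin.sum_univ_three, h00, h1] at h2
          refine absurd (funext fun i => ?_) hφ
          fin_cases i
          · exact h00
          · exact h1
          · exact h2
      · rintro rfl
        exact ⟨Set.mem_insert _ _, (hpt _ _).mpr h0⟩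
    · right
      rw [hk]
      set x0 := -φ 2 / φ 1 with hx0
      have e : {Q | Q ∈ insert (pt e0) (Φ '' ↑((Finset.univ : Finset F) ×ˢ C)) ∧
          ∀ v ∈ Q, φ ⬝ᵥ v = 0} = insert (pt e0) (Φ '' ↑(({x0} : Finset F) ×ˢ C)) := by
        ext Q
        constructor
        · rintro ⟨h | ⟨⟨x, c⟩, hxc, rfl⟩, hQ⟩
          · exact Or.inl h
          · refine Or.inr ⟨(x, c), ?_, rfl⟩
            have h2 := (hpt _ _).mp hQ
            simp [dotProduct, Fin.sum_univ_three, h00] at h2
            have hx' : x = x0 := by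
              rw [hx0, eq_div_iff h1]
              linear_combination h2
            simp only [Finset.mem_coe, Finset.mem_product, Finset.mem_univ, true_and,
              Finset.mem_singleton] at hxc ⊢
            exact ⟨hx', hxc⟩
        · rintro (rfl | ⟨⟨x, c⟩, hxc, rfl⟩)
          · exact ⟨Set.mem_insert _ _, (hpt _ _).mpr h0⟩
          · simp only [Finset.mem_coe, Finset.mem_product, Finset.mem_singleton] at hxc
            refine ⟨Or.inr ⟨(x, c), by simp [hxc.2], rfl⟩, (hpt _ _).mpr ?_⟩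
            simp [dotProduct, Fin.sum_univ_three, h00, hxc.1, hx0]
            field_simp
            ring
      rw [e, Set.ncard_insert_of_notMem, Set.ncard_image_of_injective _ hΦinj,
        Set.ncard_coe_finset, Finset.card_product, Finset.card_singleton, one_mul]
      exact fun h => hnot (Set.image_mono (fun y hy => Finset.mem_coe.mpr (Finset.mem_product.mpr
        ⟨Finset.mem_univ _, (Finset.mem_product.mp (Finset.mem_coe.mp hy)).2⟩)) h)
  -- the lines `b = s`
  set D : Finset (F × F) := (Finset.univ : Finset F) ×ˢ C with hD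
  set f : F → ℕ := fun s => (D.filter fun x => x.1 ^ 2 + x.2 = s).card with hf
  have hfcnt : ∀ s, f s = cnt ![1, 0, -s] := by
    intro s
    simp only [hf, hcnt]
    rw [horb, ← Set.ncard_coe_finset, ← Set.ncard_image_of_injective _ hΦinj]
    congr 1
    ext Q
    constructor
    · rintro ⟨⟨x, c⟩, hxc, rfl⟩
      simp at hxc
      refine ⟨Or.inr ⟨(x, c), by simpa [hD] using hxc.1, rfl⟩, (hpt _ _).mpr ?_⟩
      simp [dotProduct, Fin.sum_univ_three]
      linear_combination hxc.2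
    · rintro ⟨h | ⟨⟨x, c⟩, hxc, rfl⟩, hQ⟩
      · rw [h, hpt] at hQ
        simp [e0, dotProduct, Fin.sum_univ_three] at hQ
      · have h2 := (hpt _ _).mp hQ
        simp [dotProduct, Fin.sum_univ_three] at h2
        refine ⟨(x, c), ?_, rfl⟩
        simp only [Finset.coe_filter, Set.mem_ofPred_eq]
        exact ⟨hxc, by linear_combination h2⟩
  have hfval : ∀ s, f s = 0 ∨ f s = 1 ∨ f s = k + 1 := by
    intro s
    by_cases h : f s = 0
    · exact Or.inl h
    refine Or.inr ?_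
    rw [hfcnt] at h ⊢
    obtain ⟨Q, ⟨g, hg, rfl⟩, hQ⟩ := Set.nonempty_of_ncard_ne_zero h
    rw [← hinv g hg]
    refine hline _ (fun h' => ?_) ?_
    · have h'' := congrArg (fun y => y ᵥ* ((g⁻¹ : GL (Fin 3) F) : Matrix (Fin 3) (Fin 3) F)) h'
      simp only [vecMul_vecMul, Units.mul_inv, vecMul_one, zero_vecMul] at h''
      exact one_ne_zero (congrFun h'' 0)
    · rw [← dotProduct_mulVec]
      exact (hpt _ _).mp hQ
  have hsum : ∑ s, f s = p * k := by
    rw [hk, hpdef, ← Finset.card_univ, ← Finset.card_product]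
    exact (Finset.card_eq_sum_card_fiberwise fun x _ => Finset.mem_univ _).symm
  set h := p / 2 with hh
  have hchar : ringChar F ≠ 2 := by rw [ringChar.eq F p]; exact hp2
  have hG : ∀ s, (f s : F) = (k : F) + ∑ c ∈ C, (s - c) ^ h := by
    intro s
    have e : f s = ∑ c ∈ C, ({x : F | x ^ 2 = s - c}.toFinset).card := by
      simp only [hf]
      rw [Finset.card_eq_sum_card_fiberwise (f := Prod.snd) (t := C)
        fun x hx' => (Finset.mem_product.mp (Finset.mem_filter.mp hx').1).2]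
      refine Finset.sum_congr rfl fun c hc => Finset.card_bij (fun x _ => x.1) ?_ ?_ ?_
      · intro x hx'
        simp only [Finset.mem_filter] at hx'
        simp only [Set.toFinset_ofPred, Finset.mem_filter, Finset.mem_univ, true_and]
        rw [← hx'.1.2, hx'.2]
        ring
      · intro x hx' y hy' hxy
        simp only [Finset.mem_filter] at hx' hy'
        exact Prod.ext hxy (hx'.2.trans hy'.2.symm)
      · intro x hx'
        simp only [Set.toFinset_ofPred, Finset.mem_filter, Finset.mem_univ, true_and] at hx'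
        refine ⟨(x, c), ?_, rfl⟩
        simp only [Finset.mem_filter, hD, Finset.mem_product, Finset.mem_univ, true_and, and_true]
        exact ⟨hc, by rw [hx']; ring⟩
    rw [e, Nat.cast_sum, hk, Finset.card_eq_sum_ones, Nat.cast_sum, ← Finset.sum_add_distrib]
    refine Finset.sum_congr rfl fun c _ => ?_
    have h1 := congrArg (fun n : ℤ => (n : F)) (quadraticChar_card_sqrts hchar (s - c))
    simp only [Int.cast_natCast, Int.cast_add, Int.cast_one,
      quadraticChar_eq_pow_of_char_ne_two' hchar] at h1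
    rw [h1, Nat.cast_one, add_comm]
  -- many values `k + 1`
  set A := Finset.univ.filter fun s => f s = k + 1 with hAdef
  have hAcard : h < A.card := by
    have h1 : ∀ s, f s ≤ 1 + if f s = k + 1 then k else 0 := fun s => by
      rcases hfval s with e | e | e <;> split_ifs <;> omega
    have h2 := Finset.sum_le_sum (s := Finset.univ) fun s _ => h1 s
    rw [hsum, Finset.sum_add_distrib, ← Finset.sum_filter, Finset.sum_const, Finset.sum_const,
      smul_eq_mul, mul_one, Finset.card_univ, ← hAdef, smul_eq_mul, ← hpdef] at h2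
    by_contra hle
    simp only [not_lt] at hle
    have h4 : A.card * k ≤ h * k := Nat.mul_le_mul_right k hle
    have h5 : 2 * h + 1 ≤ p := by
      have := hF.eq_two_or_odd
      omega
    have h6 : p * 2 ≤ p * k := Nat.mul_le_mul_left p (by omega)
    nlinarith
  set P : Polynomial F := (∑ c ∈ C, (Polynomial.X - Polynomial.C c) ^ h) - 1 with hP
  have hh1 : 1 ≤ h := by have := hF.two_le; omega
  have hdeg : P.natDegree ≤ h := by
    refine (Polynomial.natDegree_sub_le _ _).trans (max_le ?_ (by simp))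
    refine Polynomial.natDegree_sum_le_of_forall_le _ _ fun c _ => ?_
    rw [Polynomial.natDegree_pow, Polynomial.natDegree_X_sub_C, mul_one]
  have hroot : ∀ s ∈ A, P.eval s = 0 := by
    intro s hs
    have h1 := hG s
    rw [(Finset.mem_filter.mp hs).2, Nat.cast_add, Nat.cast_one] at h1
    simp only [hP, Polynomial.eval_sub, Polynomial.eval_finsetSum, Polynomial.eval_pow,
      Polynomial.eval_X, Polynomial.eval_C, Polynomial.eval_one]
    linear_combination -h1
  have hP0 : P = 0 :=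
    Polynomial.eq_zero_of_natDegree_lt_card_of_eval_eq_zero' P A hroot (lt_of_le_of_lt hdeg hAcard)
  have hcoef : P.coeff h = (k : F) := by
    have hc : ∀ c : F, ((Polynomial.X - Polynomial.C c) ^ h).coeff h = 1 := fun c => by
      have h1 : ((Polynomial.X - Polynomial.C c) ^ h).Monic := (Polynomial.monic_X_sub_C c).pow h
      have h2 : ((Polynomial.X - Polynomial.C c) ^ h).natDegree = h := by
        rw [Polynomial.natDegree_pow, Polynomial.natDegree_X_sub_C, mul_one]
      simpa [Polynomial.leadingCoeff, h2] using h1.leadingCoeff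
    simp only [hP, Polynomial.coeff_sub, Polynomial.finsetSum_coeff, hc, Finset.sum_const,
      nsmul_eq_mul, mul_one, ← hk, Polynomial.coeff_one]
    rw [if_neg (by omega), sub_zero]
  rw [hP0, Polynomial.coeff_zero, eq_comm, CharP.cast_eq_zero_iff F p] at hcoef
  have hkeq : k = p := le_antisymm hkp (Nat.le_of_dvd (by omega) hcoef)
  have hCuniv : C = Finset.univ := Finset.eq_univ_of_card _ (by rw [← hk, hkeq])
  have hfp : f 0 = p := by
    rw [hpdef, ← Finset.card_univ]
    simp only [hf]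
    refine Finset.card_bij (fun x _ => x.1) (fun _ _ => Finset.mem_univ _) ?_ ?_
    · intro x hx' y hy' hxy
      simp only [Finset.mem_filter] at hx' hy'
      exact Prod.ext hxy (by linear_combination hx'.2 - hy'.2 - (x.1 + y.1) * hxy)
    · exact fun x _ => ⟨(x, -x ^ 2), by simp [hD, hCuniv], rfl⟩
  rcases hfval 0 with e | e | e <;> omega

include hF hno in
/-- With the involution, the order is prime to the characteristic: normal form. -/
theorem false_of_TG (h2 : (2 : F) ≠ 0) (hx : TG 1 ∈ M) (hp : Fintype.card F % 3 = 1) {ω : F}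
    {a b z : GL (Fin 3) F} (ha : a ∈ M) (hb : b ∈ M) (hz : z ∈ M) (ha3 : a ^ 3 = 1)
    (hb3 : b ^ 3 = 1) (hω : ω ≠ 0) (hab : (a * b).1 = ω • (b * a).1)
    (hnc : ∀ v : Fin 3 → F, (∃ r : F, (a : Matrix (Fin 3) (Fin 3) F) *ᵥ v = r • v) →
      (∃ r : F, (b : Matrix (Fin 3) (Fin 3) F) *ᵥ v = r • v) → v = 0)
    {v₀ : Fin 3 → F} (hv₀ : v₀ ≠ 0) (hzv : (z : Matrix (Fin 3) (Fin 3) F) *ᵥ v₀ = v₀)
    (hzy : ∀ y : Fin 3 → F, ∃ r : F, (z : Matrix (Fin 3) (Fin 3) F) *ᵥ y + y = r • v₀) : False := by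
  by_cases hB : ∃ g ∈ M, g.1 2 0 = 0 ∧ g.1 1 0 ≠ 0
  · obtain ⟨g, hg, h20, h10⟩ := hB
    exact no_whole_plane hF h2 hno hx (fun v hv => orb_all hF h2 hno hx hg h20 h10 hv) hz hv₀ hzv hzy
  · refine no_parabolas hF h2 hno hx ha hb ha3 hb3 hω hab hnc hp fun g hg h20 => ?_
    by_contra h10
    exact hB ⟨g, hg, h20, h10⟩

/-- A nilpotent regular matrix has the normal form in a suitable basis. -/
theorem exists_basis (h2 : (2 : F) ≠ 0) (x : GL (Fin 3) F) {N : Matrix (Fin 3) (Fin 3) F}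
    (hN : N = (x : Matrix (Fin 3) (Fin 3) F) - 1) (hN3 : N * N * N = 0) (hN2 : N * N ≠ 0) :
    ∃ h : GL (Fin 3) F, h⁻¹ * x * h = TG 1 := by
  obtain ⟨y, hy⟩ : ∃ y, (N * N) *ᵥ y ≠ 0 := by
    by_contra hc
    simp only [not_exists, not_not] at hc
    exact hN2 (Matrix.ext_iff_mulVec.mpr fun y => by rw [hc y, Matrix.zero_mulVec])
  set f0 := (2 : F)⁻¹ • ((N * N) *ᵥ y) with hf0
  set f1 := N *ᵥ y - f0 with hf1
  have n0 : N *ᵥ f0 = 0 := by
    rw [hf0, mulVec_smul, mulVec_mulVec, ← Matrix.mul_assoc, hN3, Matrix.zero_mulVec, smul_zero]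
  have n1 : N *ᵥ f1 = (2 : F) • f0 := by
    rw [hf1, mulVec_sub, n0, sub_zero, mulVec_mulVec, hf0, smul_inv_smul₀ h2]
  have n2 : N *ᵥ y = f0 + f1 := by rw [hf1, add_sub_cancel]
  have hf00 : f0 ≠ 0 := smul_ne_zero (inv_ne_zero h2) hy
  let H : Matrix (Fin 3) (Fin 3) F := (Matrix.of ![f0, f1, y])ᵀ
  have hH : IsUnit H := by
    rw [← linearIndependent_cols_iff_isUnit]
    show LinearIndependent F ![f0, f1, y]
    rw [Fintype.linearIndependent_iff]
    intro c hc
    simp only [Fin.sum_univ_three] at hc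
    simp at hc
    have e1 := congrArg (N *ᵥ ·) hc
    simp only [mulVec_add, mulVec_smul, n0, n1, n2, smul_zero, zero_add, mulVec_zero] at e1
    have e2 := congrArg (N *ᵥ ·) e1
    simp only [mulVec_add, mulVec_smul, n0, n1, smul_zero, zero_add, mulVec_zero, smul_smul,
      smul_eq_zero] at e2
    have c2 : c 2 = 0 := (mul_eq_zero.mp (e2.resolve_right hf00)).resolve_right h2
    rw [c2, zero_smul, add_zero, smul_smul, smul_eq_zero] at e1
    have c1 : c 1 = 0 := (mul_eq_zero.mp (e1.resolve_right hf00)).resolve_right h2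
    rw [c1, c2, zero_smul, zero_smul, add_zero, add_zero, smul_eq_zero] at hc
    intro i
    fin_cases i
    · exact hc.resolve_right hf00
    · exact c1
    · exact c2
  refine ⟨hH.unit, ?_⟩
  rw [mul_assoc, inv_mul_eq_iff_eq_mul]
  refine Units.ext (Matrix.ext_of_mulVec_single fun j => ?_)
  have hx1 : ∀ v, (x : Matrix (Fin 3) (Fin 3) F) *ᵥ v = v + N *ᵥ v := fun v => by
    rw [hN, sub_mulVec, one_mulVec, add_sub_cancel]
  have hcol : ∀ w : Fin 3 → F, H *ᵥ w = w 0 • f0 + w 1 • f1 + w 2 • y := fun w => by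
    ext i
    simp [H, Matrix.mulVec, dotProduct, Fin.sum_univ_three]
    ring
  simp only [Units.val_mul, IsUnit.unit_spec, ← mulVec_mulVec, TG_coe, TM_mulVec, hcol, hx1,
    mulVec_add, mulVec_smul, n0, n1, n2]
  fin_cases j <;> simp <;> module

/-- Over a prime field, a group without transvections containing the monomial extraspecial group and
its inverting involution has order prime to the characteristic. -/
theorem not_dvd_card (p : ℕ) [Fact p.Prime] (hcard : Fintype.card F = p) (hp : p % 3 = 1) {ω : F}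
    (hω : IsPrimitiveRoot ω 3) {M : Subgroup (GL (Fin 3) F)}
    (hno : ∀ g ∈ M, ¬ IsTransvec g) {gA gB gz : GL (Fin 3) F} (hgA : gA ∈ M) (hgB : gB ∈ M)
    (hgz : gz ∈ M) (vA : (gA : Matrix (Fin 3) (Fin 3) F) = stA ω)
    (vB : (gB : Matrix (Fin 3) (Fin 3) F) = stB) (vz : (gz : Matrix (Fin 3) (Fin 3) F) = -stS) :
    ¬ p ∣ Nat.card M := by
  intro hdvd
  have hpp : p.Prime := Fact.out
  have hF : (Fintype.card F).Prime := hcard ▸ hpp
  have : CharP F p := charP_of_card_eq_prime hcard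
  have h2 : (2 : F) ≠ 0 := by
    intro h
    have h' : ((2 : ℕ) : F) = 0 := by exact_mod_cast h
    rw [CharP.cast_eq_zero_iff F p] at h'
    have := Nat.le_of_dvd (by omega) h'
    have := hpp.two_le
    omega
  obtain ⟨⟨x, hxM⟩, hord⟩ := exists_prime_orderOf_dvd_card' (G := M) p hdvd
  rw [Subgroup.orderOf_mk] at hord
  set N := (x : Matrix (Fin 3) (Fin 3) F) - 1 with hN
  have hnil : IsNilpotent N := ⟨p, by
    rw [hN, sub_pow_char_of_commute p (Commute.one_right _), one_pow, ← Units.val_pow_eq_pow_val,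
      ← hord, pow_orderOf_eq_one, Units.val_one, sub_self]⟩
  have hN3 : N * N * N = 0 := by
    have h := (Matrix.isNilpotent_charpoly_sub_pow_of_isNilpotent hnil).eq_zero
    have h' := Matrix.aeval_self_charpoly N
    rw [sub_eq_zero.mp h, map_pow, Polynomial.aeval_X, Fintype.card_fin, pow_succ, pow_two] at h'
    exact h'
  have hN2 : N * N ≠ 0 := fun h => hno x hxM ⟨fun h1 => by
    rw [h1, orderOf_one] at hord
    exact hpp.one_lt.ne hord, h⟩
  obtain ⟨h, hh⟩ := exists_basis h2 x hN hN3 hN2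
  set c : GL (Fin 3) F →* GL (Fin 3) F := (MulAut.conj h⁻¹).toMonoidHom with hc
  have hcv : ∀ g, c g = h⁻¹ * g * h := fun g => by simp [hc, MulAut.conj_apply]
  have hval : ∀ g v, (c g : Matrix (Fin 3) (Fin 3) F) *ᵥ
      (((h⁻¹ : GL (Fin 3) F) : Matrix (Fin 3) (Fin 3) F) *ᵥ v) =
      ((h⁻¹ : GL (Fin 3) F) : Matrix (Fin 3) (Fin 3) F) *ᵥ ((g : Matrix (Fin 3) (Fin 3) F) *ᵥ v) :=
    fun g v => by
      rw [hcv, Units.val_mul, Units.val_mul, ← mulVec_mulVec, ← mulVec_mulVec, mulVec_inv_mulVec]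
  have hwω : ω ≠ 0 := hω.ne_zero (by norm_num)
  have hw3 : ω ^ 3 = 1 := hω.pow_eq_one
  have hw1 : ω ≠ 1 := hω.ne_one (by norm_num)
  have hw2 : ω ^ 2 ≠ 1 := hω.pow_ne_one_of_pos_of_lt (by norm_num) (by norm_num)
  refine false_of_TG (M := M.map c) hF ?_ h2 ⟨x, hxM, by rw [hcv, hh]⟩ (by rw [hcard]; exact hp)
    (ω := ω) (Subgroup.mem_map_of_mem c hgA) (Subgroup.mem_map_of_mem c hgB)
    (Subgroup.mem_map_of_mem c hgz) ?_ ?_ hwω ?_ ?_
    (v₀ := ((h⁻¹ : GL (Fin 3) F) : Matrix (Fin 3) (Fin 3) F) *ᵥ ![0, 1, -1]) ?_ ?_ ?_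
  · rintro _ ⟨g, hg, rfl⟩ ⟨h1, h1'⟩
    refine hno g hg ⟨fun e => h1 (by rw [e, map_one]), ?_⟩
    have e : (c g : Matrix (Fin 3) (Fin 3) F) - 1 = ((h⁻¹ : GL (Fin 3) F) : Matrix (Fin 3) (Fin 3) F) *
        ((g : Matrix (Fin 3) (Fin 3) F) - 1) * (h : Matrix (Fin 3) (Fin 3) F) := by
      rw [hcv, Units.val_mul, Units.val_mul, Matrix.mul_sub, Matrix.sub_mul, Matrix.mul_one,
        Units.inv_mul]
    rw [e] at h1'
    have h3 := congrArg (fun A => (h : Matrix (Fin 3) (Fin 3) F) * A *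
      ((h⁻¹ : GL (Fin 3) F) : Matrix (Fin 3) (Fin 3) F)) h1'
    simpa [← Matrix.mul_assoc, Units.mul_inv_cancel_right] using h3
  · rw [← map_pow, show gA ^ 3 = 1 from Units.ext ?_, map_one]
    rw [Units.val_pow_eq_pow_val, vA, pow_three, Units.val_one]
    ext i j
    fin_cases i <;> fin_cases j <;> simp [stA, Matrix.mul_apply, Fin.sum_univ_three]
    · linear_combination hw3
    · linear_combination (ω ^ 3 + 1) * hw3
  · rw [← map_pow, show gB ^ 3 = 1 from Units.ext ?_, map_one]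
    rw [Units.val_pow_eq_pow_val, vB, pow_three, Units.val_one]
    ext i j
    fin_cases i <;> fin_cases j <;> simp [stB, Matrix.mul_apply, Fin.sum_univ_three]
  · have e : (gA * gB).1 = ω • (gB * gA).1 := by
      rw [Units.val_mul, Units.val_mul, vA, vB]
      ext i j
      fin_cases i <;> fin_cases j <;> simp [stA, stB, Matrix.mul_apply, Fin.sum_univ_three]
      · linear_combination -hw3
      · ring
    rw [← map_mul, ← map_mul, hcv, hcv, Units.val_mul, Units.val_mul, e, Matrix.mul_smul,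
      Matrix.smul_mul, ← Units.val_mul, ← Units.val_mul]
  · rintro v ⟨r, hr⟩ ⟨r', hr'⟩
    obtain ⟨v, rfl⟩ : ∃ u, ((h⁻¹ : GL (Fin 3) F) : Matrix (Fin 3) (Fin 3) F) *ᵥ u = v :=
      ⟨(h : Matrix (Fin 3) (Fin 3) F) *ᵥ v, inv_mulVec_mulVec h v⟩
    rw [hval, ← mulVec_smul] at hr hr'
    have ea := mulVec_injective h⁻¹ hr
    have eb := mulVec_injective h⁻¹ hr'
    rw [vA] at ea
    rw [vB] at eb
    have a0 := congrFun ea 0
    have a1 := congrFun ea 1
    have b0 := congrFun eb 0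
    have b1 := congrFun eb 1
    have b2 := congrFun eb 2
    simp [stA, stB, Matrix.mulVec, dotProduct, Fin.sum_univ_three] at a0 a1 b0 b1 b2
    have hv0 : v 0 = 0 := by
      by_contra hne
      have hr1 : r = 1 := mul_right_cancel₀ hne (by linear_combination -a0)
      have hv1 : v 1 = 0 := by
        rw [hr1] at a1
        exact a1.resolve_left hw1
      exact hne (by rw [b1, hv1, mul_zero])
    rw [hv0, mul_zero] at b0
    rw [b0, mul_zero] at b2
    have : v = 0 := funext fun i => by fin_cases i <;> simp [hv0, b0, b2]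
    rw [this, mulVec_zero]
  · exact mulVec_ne_zero _ fun e => one_ne_zero (congrFun e 1)
  · rw [hval, vz]
    congr 1
    ext i
    fin_cases i <;> simp [stS, Matrix.mulVec, dotProduct, Fin.sum_univ_three]
  · intro y
    obtain ⟨u, rfl⟩ : ∃ u, ((h⁻¹ : GL (Fin 3) F) : Matrix (Fin 3) (Fin 3) F) *ᵥ u = y :=
      ⟨(h : Matrix (Fin 3) (Fin 3) F) *ᵥ y, inv_mulVec_mulVec h y⟩
    refine ⟨u 1 - u 2, ?_⟩
    rw [hval, ← mulVec_add, ← mulVec_smul, vz]
    congr 1
    ext i
    fin_cases i <;> simp [stS, Matrix.mulVec, dotProduct, Fin.sum_univ_three] <;> ring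

end Cfsg.Agent.SL3Geo32.Regular
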